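import Cfsg.Agent.Small.Dihedral
import Cfsg.Agent.Small.StronglyEmbedded
import Cfsg.Agent.Small.ThompsonTransfer
import Cfsg.Agent.ZStar.Theorem
import Cfsg.Agent.CITGroups.Basic
import Cfsg.Agent.S0205
import Mathlib.LinearAlgebra.Matrix.GeneralLinearGroup.Projective

/-!
# Groups in which the subgroups of a cyclic subgroup of even order have equal normalisers

The hypothesis `II`, and the odd part `oddPart t` of the centraliser of an involution `t`: it is a
subgroup, normal in the centraliser, all whose cyclic subgroups are normal there.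
-/

set_option autoImplicit false
set_option linter.unusedSectionVars false
set_option linter.style.haveILetI false

namespace CfsgLib.IIGroups70

open Subgroup

/-- All nontrivial subgroups of a cyclic subgroup of even order have the same normaliser. -/
def II (G : Type*) [Group G] : Prop :=
  ∀ x : G, Even (orderOf x) → ∀ Y : Subgroup G, Y ≤ zpowers x → Y ≠ ⊥ →
    normalizer ((zpowers x : Subgroup G) : Set G) = normalizer (Y : Set G)

/-- No nontrivial solvable normal subgroup. -/
def SS (G : Type*) [Group G] : Prop :=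
  ∀ N : Subgroup G, N.Normal → Group.IsSolvable N → N = ⊥

/-- A subgroup of index two missing an involution. -/
def Split (G : Type*) [Group G] : Prop :=
  ∃ M : Subgroup G, M.index = 2 ∧ ∃ s : G, orderOf s = 2 ∧ s ∉ M

/-- `PSL(2, q)` or `PGL(2, q)`, `q > 3`. -/
def Known (G : Type*) [Group G] : Prop :=
  ∃ (F : Type) (_ : Field F) (_ : Fintype F), 3 < Fintype.card F ∧
    (Nonempty (G ≃* Matrix.ProjectiveSpecialLinearGroup (Fin 2) F) ∨
      Nonempty (G ≃* Matrix.ProjGenLinGroup (Fin 2) F))

variable {G : Type*} [Group G]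

theorem invol_sq {t : G} (ht : orderOf t = 2) : t * t = 1 := by
  rw [← sq, ← ht, pow_orderOf_eq_one]

theorem invol_ne_one {t : G} (ht : orderOf t = 2) : t ≠ 1 := fun e => by
  rw [e, orderOf_one] at ht; omega

theorem invol_inv {t : G} (ht : orderOf t = 2) : t⁻¹ = t :=
  inv_eq_of_mul_eq_one_right (invol_sq ht)

theorem orderOf_two_of {t : G} (h : t * t = 1) (h1 : t ≠ 1) : orderOf t = 2 :=
  orderOf_eq_prime (by rw [sq, h]) h1

theorem invol_zpow {t : G} (ht : orderOf t = 2) (i : ℤ) : t ^ i = 1 ∨ t ^ i = t := by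
  rw [← zpow_mod_orderOf, ht]
  rcases Int.emod_two_eq_zero_or_one i with h | h <;> simp [h]

theorem mem_zpowers_invol {t z : G} (ht : orderOf t = 2) (hz : z ∈ zpowers t) : z = 1 ∨ z = t := by
  obtain ⟨i, rfl⟩ := mem_zpowers_iff.1 hz
  exact invol_zpow ht i

theorem mem_cent {c x : G} : c ∈ centralizer ({x} : Set G) ↔ Commute c x :=
  mem_centralizer_singleton_iff

theorem self_mem_cent (x : G) : x ∈ centralizer ({x} : Set G) := mem_cent.2 (Commute.refl x)

theorem cent_conj (g x c : G) :
    c ∈ centralizer ({g * x * g⁻¹} : Set G) ↔ g⁻¹ * c * g ∈ centralizer ({x} : Set G) := by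
  rw [mem_centralizer_singleton_iff, mem_centralizer_singleton_iff]
  constructor <;> intro h
  · calc g⁻¹ * c * g * x = g⁻¹ * (c * (g * x * g⁻¹)) * g := by group
      _ = x * (g⁻¹ * c * g) := by rw [h]; group
  · calc c * (g * x * g⁻¹) = g * (g⁻¹ * c * g * x) * g⁻¹ := by group
      _ = g * x * g⁻¹ * c := by rw [h]; group

theorem orderOf_conj' (g x : G) : orderOf (g * x * g⁻¹) = orderOf x :=
  (MulAut.conj g).orderOf_eq x

theorem conj_mem_zpowers_conj (g : G) {x y : G} (h : y ∈ zpowers x) :
    g * y * g⁻¹ ∈ zpowers (g * x * g⁻¹) := by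
  obtain ⟨i, rfl⟩ := mem_zpowers_iff.1 h
  exact mem_zpowers_iff.2 ⟨i, conj_zpow⟩

theorem commute_conj_iff (g a b : G) :
    Commute (g * a * g⁻¹) (g * b * g⁻¹) ↔ Commute a b := by
  constructor <;> intro h
  · exact (MulAut.conj g).injective
      (by simpa [MulAut.conj_apply, mul_assoc] using h.eq)
  · show g * a * g⁻¹ * (g * b * g⁻¹) = g * b * g⁻¹ * (g * a * g⁻¹)
    rw [conj_mul, conj_mul, h.eq]

variable [Finite G]

theorem SS.eq_bot_of_odd (h : SS G) {N : Subgroup G} (hN : N.Normal) (ho : Odd (Nat.card N)) :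
    N = ⊥ :=
  h N hN (Cfsg.Agent.S0205.result ho)

theorem mem_normalizer_zpowers {g y : G} :
    g ∈ normalizer ((zpowers y : Subgroup G) : Set G) ↔ g * y * g⁻¹ ∈ zpowers y := by
  refine ⟨fun h => (mem_normalizer_iff.1 h y).1 (mem_zpowers y), fun h => ?_⟩
  rw [mem_normalizer_iff_map_conj_eq, MonoidHom.map_zpowers]
  refine eq_of_le_of_card_ge (zpowers_le.2 h) (le_of_eq ?_)
  rw [Nat.card_zpowers, Nat.card_zpowers]
  exact (orderOf_conj' g y).symm

theorem normalizer_zpowers_invol {t : G} (ht : orderOf t = 2) :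
    normalizer ((zpowers t : Subgroup G) : Set G) = centralizer ({t} : Set G) := by
  ext g
  rw [mem_normalizer_zpowers, mem_centralizer_singleton_iff]
  refine ⟨fun h => ?_, fun h => ?_⟩
  · rcases mem_zpowers_invol ht h with e | e
    · exact absurd (conj_eq_one_iff.1 e) (invol_ne_one ht)
    · exact mul_inv_eq_iff_eq_mul.1 e
  · rw [h, mul_inv_cancel_right]
    exact mem_zpowers t

theorem exists_invol_zpowers {x : G} (h : Even (orderOf x)) : ∃ t ∈ zpowers x, orderOf t = 2 :=
  ⟨x ^ (orderOf x / 2), pow_mem (mem_zpowers x) _,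
    orderOf_pow_orderOf_div (orderOf_pos x).ne' h.two_dvd⟩

theorem even_of_invol_mem {x t : G} (ht : orderOf t = 2) (htx : t ∈ zpowers x) :
    Even (orderOf x) :=
  even_iff_two_dvd.2 (ht ▸ orderOf_dvd_of_mem_zpowers htx)

/-- A cyclic subgroup has at most one involution. -/
theorem invol_unique {x a b : G} (ha : orderOf a = 2) (hb : orderOf b = 2) (hax : a ∈ zpowers x)
    (hbx : b ∈ zpowers x) : a = b := by
  have key : ∀ c : G, orderOf c = 2 → c ∈ zpowers x → c = x ^ (orderOf x / 2) := by
    intro c hc hcx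
    obtain ⟨i, rfl⟩ := mem_powers_iff_mem_zpowers.2 hcx
    obtain ⟨m, hm⟩ := (even_of_invol_mem hc hcx).two_dvd
    have h2 : orderOf x ∣ i * 2 := orderOf_dvd_iff_pow_eq_one.2 (by
      rw [pow_mul, sq]; exact invol_sq hc)
    rw [hm, mul_comm i] at h2
    obtain ⟨j, rfl⟩ := Nat.dvd_of_mul_dvd_mul_left two_pos h2
    show x ^ (m * j) = x ^ (orderOf x / 2)
    rw [hm, Nat.mul_div_cancel_left _ two_pos]
    rcases Nat.even_or_odd j with ⟨k, rfl⟩ | ⟨k, rfl⟩
    · exfalso
      refine invol_ne_one hc ?_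
      show x ^ (m * (k + k)) = 1
      rw [show m * (k + k) = 2 * m * k by ring, pow_mul, ← hm, pow_orderOf_eq_one, one_pow]
    · rw [show m * (2 * k + 1) = 2 * m * k + m by ring, pow_add, pow_mul, ← hm, pow_orderOf_eq_one,
        one_pow, one_mul]
  exact (key a ha hax).trans (key b hb hbx).symm

/-- Every element is the product of a power of odd order and a power of two-power order. -/
theorem exists_odd_two_decomp (g : G) : ∃ y x : G, y ∈ zpowers g ∧ x ∈ zpowers g ∧
    Odd (orderOf y) ∧ (∃ k, orderOf x = 2 ^ k) ∧ g = y * x := by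
  obtain ⟨a, m, hm, hn⟩ := Nat.exists_eq_two_pow_mul_odd (orderOf_pos g).ne'
  have hco : IsCoprime ((2 ^ a : ℕ) : ℤ) (m : ℤ) :=
    Int.isCoprime_iff_nat_coprime.2
      (((Nat.coprime_two_right.2 hm).symm.pow_left a))
  obtain ⟨u, v, huv⟩ := hco
  refine ⟨g ^ (u * ((2 ^ a : ℕ) : ℤ)), g ^ (v * (m : ℤ)), zpow_mem (mem_zpowers g) _,
    zpow_mem (mem_zpowers g) _, ?_, ?_, by rw [← zpow_add, huv, zpow_one]⟩
  · refine Odd.of_dvd_nat hm (orderOf_dvd_of_pow_eq_one ?_)
    rw [← zpow_natCast, ← zpow_mul, mul_assoc, mul_comm u, zpow_mul, ← Nat.cast_mul, ← hn,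
      zpow_natCast, pow_orderOf_eq_one, one_zpow]
  · obtain ⟨k, -, hk⟩ := (Nat.dvd_prime_pow Nat.prime_two).1
      (show orderOf (g ^ (v * (m : ℤ))) ∣ 2 ^ a from orderOf_dvd_of_pow_eq_one (by
        rw [← zpow_natCast, ← zpow_mul, mul_assoc, mul_comm v, zpow_mul, ← Nat.cast_mul,
          mul_comm m, ← hn, zpow_natCast, pow_orderOf_eq_one, one_zpow]))
    exact ⟨k, hk⟩

namespace II

theorem subgroup (h : II G) (M : Subgroup G) : II M := by
  intro x hx Y hY hY1
  have e : ∀ Z : Subgroup M, normalizer (Z : Set M) =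
      (normalizer ((Z.map M.subtype : Subgroup G) : Set G)).comap M.subtype := by
    intro Z
    ext g
    rw [mem_comap, mem_normalizer_iff, mem_normalizer_iff]
    constructor
    · intro hg z
      constructor
      · rintro ⟨w, hw, rfl⟩
        exact ⟨g * w * g⁻¹, (hg w).1 hw, rfl⟩
      · rintro ⟨w, hw, hw'⟩
        refine ⟨g⁻¹ * w * g, (hg _).2 (by simpa [mul_assoc] using hw), ?_⟩
        simp only [Subgroup.coe_subtype] at hw'
        simp only [Subgroup.coe_subtype, Subgroup.coe_mul, InvMemClass.coe_inv, hw']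
        group
    · intro hg w
      have h1 := hg w
      rw [show (w : G) = M.subtype w from rfl, mem_map_iff_mem M.subtype_injective,
        show M.subtype g * M.subtype w * (M.subtype g)⁻¹ = M.subtype (g * w * g⁻¹) by simp,
        mem_map_iff_mem M.subtype_injective] at h1
      exact h1
  rw [e, e, h (x : G) (by rwa [Subgroup.orderOf_coe]) (Y.map M.subtype) ?_ ?_ |>.symm,
    MonoidHom.map_zpowers]
  · rfl
  · rw [show zpowers (x : G) = (zpowers x).map M.subtype from
      (MonoidHom.map_zpowers M.subtype x).symm]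
    exact Subgroup.map_mono hY
  · rwa [Ne, map_eq_bot_iff_of_injective _ M.subtype_injective]

/-- The normaliser of a nontrivial element of a cyclic group with involution `t` is `C(t)`. -/
theorem nrm (h : II G) {x t y : G} (ht : orderOf t = 2) (htx : t ∈ zpowers x)
    (hy : y ∈ zpowers x) (hy1 : y ≠ 1) :
    normalizer ((zpowers y : Subgroup G) : Set G) = centralizer ({t} : Set G) := by
  have hx := even_of_invol_mem ht htx
  rw [← normalizer_zpowers_invol ht, ← h x hx (zpowers t) (zpowers_le.2 htx)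
      (zpowers_ne_bot.2 (invol_ne_one ht)), ← h x hx (zpowers y) (zpowers_le.2 hy)
      (zpowers_ne_bot.2 hy1)]

theorem nrm_self (h : II G) {x t : G} (ht : orderOf t = 2) (htx : t ∈ zpowers x) :
    normalizer ((zpowers x : Subgroup G) : Set G) = centralizer ({t} : Set G) :=
  h.nrm ht htx (mem_zpowers x) fun e => invol_ne_one ht (by
    rw [e, zpowers_one_eq_bot, mem_bot] at htx; exact htx)

/-- A cyclic subgroup with involution `t` is normal in `C(t)`. -/
theorem conj_mem (h : II G) {x t c : G} (ht : orderOf t = 2) (htx : t ∈ zpowers x)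
    (hc : Commute c t) : c * x * c⁻¹ ∈ zpowers x :=
  mem_normalizer_zpowers.1 ((h.nrm_self ht htx).ge (mem_cent.2 hc))

theorem odd_nrm (h : II G) {t y : G} (ht : orderOf t = 2) (hc : Commute y t)
    (ho : Odd (orderOf y)) (hy1 : y ≠ 1) :
    normalizer ((zpowers y : Subgroup G) : Set G) = centralizer ({t} : Set G) := by
  have ht' : (y * t) ^ orderOf y = t := by
    obtain ⟨k, hk⟩ := ho
    rw [hc.mul_pow, pow_orderOf_eq_one, one_mul, hk, pow_succ, pow_mul, sq, invol_sq ht, one_pow,
      one_mul]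
  have h1 : t ∈ zpowers (y * t) := ⟨(orderOf y : ℕ), by simpa using ht'⟩
  have h2 : y ∈ zpowers (y * t) := by
    have := mul_mem (mem_zpowers (y * t)) h1
    rwa [mul_assoc, invol_sq ht, mul_one] at this
  exact h.nrm ht h1 h2 hy1

/-- An element of odd order in `C(t)` generates a normal subgroup of `C(t)`. -/
theorem odd_conj_mem (h : II G) {t y c : G} (ht : orderOf t = 2) (hy : Commute y t)
    (ho : Odd (orderOf y)) (hc : Commute c t) : c * y * c⁻¹ ∈ zpowers y := by
  by_cases hy1 : y = 1
  · subst hy1; simp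
  · exact mem_normalizer_zpowers.1 ((h.odd_nrm ht hy ho hy1).ge (mem_cent.2 hc))

theorem commute_of_odd (h : II G) {t y c : G} (ht : orderOf t = 2) (hy : Commute y t)
    (ho : Odd (orderOf y)) (hy1 : y ≠ 1) (hc : Commute c y) : Commute c t := by
  refine mem_cent.1 ((h.odd_nrm ht hy ho hy1).le (mem_normalizer_zpowers.2 ?_))
  rw [hc.eq, mul_inv_cancel_right]
  exact mem_zpowers y

end II

/-- The subgroup generated by the elements of odd order of `C(t)`. -/
def oddPart (t : G) : Subgroup G := closure {y : G | Commute y t ∧ Odd (orderOf y)}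

theorem II.mem_oddPart (h : II G) {t y : G} (ht : orderOf t = 2) :
    y ∈ oddPart t ↔ Commute y t ∧ Odd (orderOf y) := by
  let A : Subgroup G :=
    { carrier := {y : G | Commute y t ∧ Odd (orderOf y)}
      one_mem' := ⟨Commute.one_left t, by rw [orderOf_one]; exact odd_one⟩
      inv_mem' := fun {a} ha => ⟨ha.1.inv_left, by rw [orderOf_inv]; exact ha.2⟩
      mul_mem' := fun {a b} ha hb => by
        refine ⟨ha.1.mul_left hb.1, Odd.of_dvd_nat (ha.2.mul hb.2) ?_⟩
        have key : ∀ n : ℕ, ∃ z ∈ zpowers a, (a * b) ^ n = z * b ^ n := by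
          intro n
          induction n with
          | zero => exact ⟨1, one_mem _, by simp⟩
          | succ n ih =>
            obtain ⟨z, hz, e⟩ := ih
            refine ⟨z * (b ^ n * a * (b ^ n)⁻¹), mul_mem hz
              (h.odd_conj_mem ht ha.1 ha.2 (hb.1.pow_left n)), ?_⟩
            rw [pow_succ, e, pow_succ]
            group
        obtain ⟨z, hz, e⟩ := key (orderOf b)
        rw [pow_orderOf_eq_one, mul_one] at e
        refine orderOf_dvd_of_pow_eq_one ?_
        rw [mul_comm, pow_mul, e]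
        exact orderOf_dvd_iff_pow_eq_one.1 (orderOf_dvd_of_mem_zpowers hz) }
  exact (show oddPart t = A from closure_eq A) ▸ Iff.rfl

theorem II.conj_mem_oddPart (h : II G) {t y : G} (ht : orderOf t = 2) (g : G) :
    y ∈ oddPart (g * t * g⁻¹) ↔ g⁻¹ * y * g ∈ oddPart t := by
  rw [h.mem_oddPart ht, h.mem_oddPart (by rw [orderOf_conj', ht]), ← mem_cent, cent_conj, mem_cent,
    show orderOf (g⁻¹ * y * g) = orderOf y by simpa using orderOf_conj' g⁻¹ y]

theorem II.oddPart_conj_ne_bot (h : II G) {t : G} (ht : orderOf t = 2) (hA : oddPart t ≠ ⊥)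
    (g : G) : oddPart (g * t * g⁻¹) ≠ ⊥ := by
  obtain ⟨y, hy, hy1⟩ := (oddPart t).bot_or_exists_ne_one.resolve_left hA
  intro e
  have h1 : g * y * g⁻¹ ∈ oddPart (g * t * g⁻¹) :=
    (h.conj_mem_oddPart ht g).2 (by simpa [mul_assoc] using hy)
  rw [e, mem_bot, conj_eq_one_iff] at h1
  exact hy1 h1

/-- An involution centralising a nontrivial element of the odd part of `C(t)` has the same
centraliser as `t`. -/
theorem II.tight_of_commute (h : II G) {t w y : G} (ht : orderOf t = 2) (hw : orderOf w = 2)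
    (hy : y ∈ oddPart t) (hy1 : y ≠ 1) (hwy : Commute w y) :
    centralizer ({w} : Set G) = centralizer ({t} : Set G) := by
  obtain ⟨hc, ho⟩ := (h.mem_oddPart ht).1 hy
  rw [← h.odd_nrm hw hwy.symm ho hy1, h.odd_nrm ht hc ho hy1]

/-- An involution of `C(t)` with another centraliser inverts the odd part of `C(t)`. -/
theorem II.inverts_oddPart (h : II G) {t w : G} (ht : orderOf t = 2) (hw : orderOf w = 2)
    (hwt : Commute w t) (hne : centralizer ({w} : Set G) ≠ centralizer ({t} : Set G)) :
    ∀ y ∈ oddPart t, w * y * w = y⁻¹ := by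
  refine CfsgLib.CITGroups.inverts_of_fixedPointFree (invol_sq hw) (fun y hy => ?_)
    fun y hy hc => ?_
  · obtain ⟨hc, ho⟩ := (h.mem_oddPart ht).1 hy
    refine (h.mem_oddPart ht).2 ⟨(hwt.mul_left hc).mul_left hwt, ?_⟩
    nth_rw 2 [← invol_inv hw]
    rwa [orderOf_conj']
  · by_contra hy1
    exact hne (h.tight_of_commute ht hw hy hy1 hc)

theorem SS.center_eq_bot (hs : SS G) : center G = ⊥ :=
  hs _ inferInstance (Group.isSolvable_of_comm fun a b => Subtype.ext (mem_center_iff.1 b.2 a))

/-- An involution `t` that is alone in its centraliser does not exist. -/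
theorem SS.false_of_unique (hs : SS G) {t : G} (ht : orderOf t = 2)
    (hu : ∀ u, orderOf u = 2 → Commute u t → u = t) : False := by
  have hc : t ∈ center G := CfsgLib.ZStar.mem_center_of_isolated
    ⟨ht, fun g hg => hu _ (by rw [orderOf_conj', ht]) hg.symm⟩ fun N hN ho => hs.eq_bot_of_odd hN ho
  rw [hs.center_eq_bot, mem_bot] at hc
  exact invol_ne_one ht hc

/-- An isolated involution does not exist. -/
theorem SS.false_of_isolated (hs : SS G) {t : G} (ht : orderOf t = 2)
    (hu : ∀ g : G, Commute (g * t * g⁻¹) t → g * t * g⁻¹ = t) : False := by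
  have hc : t ∈ center G := CfsgLib.ZStar.mem_center_of_isolated
    ⟨ht, fun g hg => hu g hg.symm⟩ fun N hN ho => hs.eq_bot_of_odd hN ho
  rw [hs.center_eq_bot, mem_bot] at hc
  exact invol_ne_one ht hc

theorem Split.of_not_conj [Nontrivial G] (M : Subgroup G) (hM : M.index % 4 = 2) {u : G}
    (hu : orderOf u = 2) (hno : ∀ g : G, g⁻¹ * u * g ∉ M) : Split G := by
  classical
  haveI := Fintype.ofFinite (G ⧸ M)
  let f := MulAction.toPermHom G (G ⧸ M)
  have hmove : ∀ a : G ⧸ M, f u a ≠ a := by
    intro a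
    induction a using QuotientGroup.induction_on with
    | _ g =>
      show ((u * g : G) : G ⧸ M) ≠ (g : G ⧸ M)
      rw [ne_comm, ne_eq, QuotientGroup.eq, ← mul_assoc]
      exact hno g
  have hord : orderOf (f u) = 2 := by
    refine orderOf_eq_prime ?_ fun h1 => hmove ((1 : G) : G ⧸ M) (by rw [h1]; rfl)
    rw [← map_pow, ← hu, pow_orderOf_eq_one, map_one]
  have hodd : Odd (Fintype.card (G ⧸ M) / 2) := by
    rw [← Nat.card_eq_fintype_card, ← Subgroup.index_eq_card, Nat.odd_iff]
    omega
  have hsgn := CfsgLib.Small.sign_eq_neg_one_of_moves_all hord hmove hodd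
  refine ⟨(Equiv.Perm.sign.comp f).ker, ?_, u, hu, fun h => ?_⟩
  · rw [Subgroup.index_ker, MonoidHom.range_eq_top.2 ?_, Subgroup.card_top,
      Nat.card_eq_fintype_card, Fintype.card_units_int]
    intro e
    rcases Int.units_eq_one_or e with rfl | rfl
    · exact ⟨1, map_one _⟩
    · exact ⟨u, hsgn⟩
  · rw [MonoidHom.mem_ker, MonoidHom.comp_apply, hsgn] at h
    exact absurd h (by decide)

/-- Every involution is conjugate into a subgroup of index two of a Sylow 2-subgroup. -/
theorem exists_conj_mem_of_not_split [Nontrivial G] (hns : ¬ Split G) (R : Sylow 2 G)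
    (M : Subgroup G) (hMR : M ≤ R) (hM : M.relIndex R = 2) {u : G} (hu : orderOf u = 2) :
    ∃ g : G, g⁻¹ * u * g ∈ M := by
  haveI : Fact (Nat.Prime 2) := ⟨Nat.prime_two⟩
  by_contra hno
  push Not at hno
  refine hns (Split.of_not_conj M ?_ hu hno)
  rw [← Subgroup.relIndex_mul_index hMR, hM]
  have := R.not_dvd_index
  omega

end CfsgLib.IIGroups70
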