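import Cfsg.Agent.IIGroups70.Basic
import Cfsg.Agent.SEmbed.Cosets
import Cfsg.Agent.OddOrder.CN.Basic
import Cfsg.Agent.Hamiltonian.Basic
import Cfsg.Agent.CAGroups.Simple
import Cfsg.Agent.DicksonPSL2.MinimalSimple
import Cfsg.Agent.S2202

/-!
# A strongly embedded subgroup with one involution centraliser

The centraliser is a Dedekind group with two involutions permuted transitively, hence abelian, and
the group is `SL₂` in characteristic two.
-/

set_option autoImplicit false
set_option linter.unusedSectionVars false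
set_option linter.style.haveILetI false

namespace CfsgLib.IIGroups70

open Subgroup CfsgLib.SEmbed

variable {G : Type*} [Group G] [Finite G]

theorem known_of_embedded (h : II G) (hs : SS G) {H : Subgroup G}
    (hH : Cfsg.IsStronglyEmbedded H) {t : G} (ht : orderOf t = 2) (htH : t ∈ H)
    (hC : ∀ u ∈ H, orderOf u = 2 →
      centralizer ({u} : Set G) = centralizer ({t} : Set G)) : Known G := by
  classical
  haveI : Fact (Nat.Prime 2) := ⟨Nat.prime_two⟩
  have huf := uniqueFix hH
  haveI := nontrivial_cosets hH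
  obtain ⟨y, hy⟩ := exists_ne ((1 : G) : G ⧸ H)
  set C := centralizer ({t} : Set G) with hCdef
  have hCH : C ≤ H := fun c hc =>
    (smul_one_eq_iff H c).1 (commute_fix huf ht (mem_cent.1 hc) ((smul_one_eq_iff H t).2 htH))
  -- every cyclic subgroup of `C` is normal there
  have hcyc : ∀ x ∈ C, ∀ c ∈ C, c * x * c⁻¹ ∈ zpowers x := by
    intro x hx c hc
    rcases Nat.even_or_odd (orderOf x) with he | ho
    · obtain ⟨u, hux, hu⟩ := exists_invol_zpowers he
      have huC : u ∈ C := zpowers_le.2 hx hux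
      exact h.conj_mem hu hux (mem_cent.1 ((hC u (hCH huC) hu).ge hc))
    · exact h.odd_conj_mem ht (mem_cent.1 hx) ho (mem_cent.1 hc)
  have hn : ∀ K : Subgroup C, K.Normal := fun K => ⟨fun k hk g => by
    obtain ⟨i, hi⟩ := mem_zpowers_iff.1 (hcyc k k.2 g g.2)
    have e : g * k * g⁻¹ = k ^ i := Subtype.ext (by simpa using hi.symm)
    exact e ▸ zpow_mem hk i⟩
  -- a second involution
  obtain ⟨t₂, ht₂, ht₂C, ht₂ne⟩ : ∃ u, orderOf u = 2 ∧ u ∈ C ∧ u ≠ t := by
    by_contra hno
    push Not at hno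
    exact hs.false_of_unique ht fun u hu hc => hno u hu (mem_cent.2 hc)
  have htrans : ∀ a b : G, orderOf a = 2 → orderOf b = 2 → a ∈ C → b ∈ C →
      ∃ d : G, d * a * d⁻¹ = b := by
    intro a b ha hb haC hbC
    obtain ⟨d, -, hd⟩ := exists_conj_fix huf hy.symm ⟨ha, (smul_one_eq_iff H a).2 (hCH haC)⟩
      ⟨hb, (smul_one_eq_iff H b).2 (hCH hbC)⟩
    exact ⟨d, hd⟩
  -- `C` is commutative
  have hpp : ∀ p q : ℕ, p.Prime → q.Prime → ∀ a b : C, (∃ k, orderOf a = p ^ k) →
      (∃ k, orderOf b = q ^ k) → Commute a b := by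
    rintro p q hp hq a b ⟨i, hi⟩ ⟨j, hj⟩
    by_cases hpq : p = q
    swap
    · exact CfsgLib.Hamiltonian.commute_of_coprime hn (by
        rw [hi, hj]; exact ((Nat.coprime_primes hp hq).2 hpq).pow _ _)
    subst hpq
    by_contra hne
    obtain ⟨-, u, v, hu, hv, huv, hvu⟩ :=
      CfsgLib.Hamiltonian.quaternion_of_not_commute hn hp ⟨i, hi⟩ ⟨j, hj⟩ hne
    have hu4 : orderOf (u : G) = 4 := by rw [Subgroup.orderOf_coe, hu]
    have hv4 : orderOf (v : G) = 4 := by rw [Subgroup.orderOf_coe, hv]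
    have hsq : ∀ z : G, orderOf z = 4 → orderOf (z * z) = 2 := fun z hz => by
      rw [← sq, orderOf_pow, hz]; rfl
    set w : G := (u : G) * u with hw
    have hwo : orderOf w = 2 := hsq _ hu4
    have hwv : w = (v : G) * v := congrArg Subtype.val huv
    have hwC : w ∈ C := mul_mem u.2 u.2
    obtain ⟨w', hw'o, hw'C, hw'ne⟩ : ∃ w', orderOf w' = 2 ∧ w' ∈ C ∧ w' ≠ w := by
      by_cases e : t = w
      · exact ⟨t₂, ht₂, ht₂C, e ▸ ht₂ne⟩
      · exact ⟨t, ht, self_mem_cent t, e⟩
    obtain ⟨d, hd⟩ := htrans w w' hwo hw'o hwC hw'C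
    set x : G := d * u * d⁻¹ with hx
    have hx4 : orderOf x = 4 := by rw [hx, orderOf_conj', hu4]
    have hxx : x * x = w' := by rw [hx, conj_mul, ← hw, hd]
    have hxC : x ∈ C := by
      rw [← hC w' (hCH hw'C) hw'o, mem_cent, ← hd, hx, commute_conj_iff, hw]
      exact (Commute.refl _).mul_right (Commute.refl _)
    -- the cyclic groups with different involutions commute
    have hcomm : ∀ z ∈ C, orderOf z = 4 → z * z = w → Commute x z := by
      intro z hz hz4 hzw
      have h1 : x * z * x⁻¹ * z⁻¹ ∈ zpowers x := by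
        rw [show x * z * x⁻¹ * z⁻¹ = x * (z * x⁻¹ * z⁻¹) by group]
        refine mul_mem (mem_zpowers x) ?_
        rw [show z * x⁻¹ * z⁻¹ = (z * x * z⁻¹)⁻¹ by group]
        exact inv_mem (hcyc x hxC z hz)
      have h2 : x * z * x⁻¹ * z⁻¹ ∈ zpowers z :=
        mul_mem (hcyc z hz x hxC) (inv_mem (mem_zpowers z))
      by_contra hne'
      have hc1 : x * z * x⁻¹ * z⁻¹ ≠ 1 := fun e =>
        hne' (mul_inv_eq_iff_eq_mul.1 (mul_inv_eq_one.1 e))
      obtain ⟨k, -, hk⟩ := (Nat.dvd_prime_pow Nat.prime_two).1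
        (show orderOf (x * z * x⁻¹ * z⁻¹) ∣ 2 ^ 2 from
          (orderOf_dvd_of_mem_zpowers h1).trans (hx4 ▸ dvd_rfl))
      obtain ⟨e, he, heo⟩ := exists_invol_zpowers (x := x * z * x⁻¹ * z⁻¹) (by
        rw [hk, Nat.even_pow' ?_]
        · exact even_two
        · rintro rfl; exact hc1 (orderOf_eq_one_iff.1 hk))
      have e1 : e = w' := invol_unique heo hw'o (zpowers_le.2 h1 he)
        (hxx ▸ mul_mem (mem_zpowers x) (mem_zpowers x))
      have e2 : e = w := invol_unique heo hwo (zpowers_le.2 h2 he)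
        (hzw ▸ mul_mem (mem_zpowers z) (mem_zpowers z))
      exact hw'ne (e1.symm.trans e2)
    have hxu := hcomm u u.2 hu4 rfl
    have hxv := hcomm v v.2 hv4 hwv.symm
    have h1 : (v : G) * (u * x) * (v : G)⁻¹ ∈ zpowers ((u : G) * x) :=
      hcyc _ (mul_mem u.2 hxC) _ v.2
    have hvu' : (v : G) * u * (v : G)⁻¹ = (u : G)⁻¹ := by
      simpa using congrArg Subtype.val hvu
    rw [show (v : G) * (u * x) * (v : G)⁻¹ = (v * u * (v : G)⁻¹) * (v * x * (v : G)⁻¹) by group,
      hvu', ← hxv.eq, mul_inv_cancel_right] at h1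
    have h2 : w ∈ zpowers ((u : G) * x) := by
      have h3 := mul_mem (mem_zpowers ((u : G) * x)) (inv_mem h1)
      rwa [mul_inv_rev, inv_inv, mul_assoc, mul_inv_cancel_left] at h3
    have h3 : (u : G) * x * (u * x) ∈ zpowers ((u : G) * x) :=
      mul_mem (mem_zpowers _) (mem_zpowers _)
    have h4 : (u : G) * x * (u * x) = w * w' := by
      rw [hw, ← hxx, mul_assoc (u : G) x, ← mul_assoc x (u : G), hxu.eq]
      group
    rw [h4] at h3
    have hne1 : w * w' ≠ 1 := fun e => hw'ne (by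
      rw [eq_inv_of_mul_eq_one_right e, invol_inv hwo])
    have hcw : Commute w' w := mem_cent.1 ((hC w (hCH hwC) hwo).ge hw'C)
    have hww : orderOf (w * w') = 2 := orderOf_two_of (by
      rw [← sq (w * w'), hcw.symm.mul_pow, sq, sq, invol_sq hw'o, invol_sq hwo, one_mul]) hne1
    have := invol_unique hwo hww h2 h3
    exact invol_ne_one hw'o (left_eq_mul.1 this)
  have hab : ∀ a ∈ C, ∀ b ∈ C, a * b = b * a := by
    intro a ha b hb
    have h1 : a ∈ centralizer ({b} : Set G) := by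
      refine CfsgLib.OddOrder.CN.mem_of_prime_pow_mem fun p i hp a' ha' hi => ?_
      rw [mem_cent, Commute.symm_iff]
      refine mem_cent.1 (CfsgLib.OddOrder.CN.mem_of_prime_pow_mem fun q j hq b' hb' hj => ?_)
      exact mem_cent.2 (congrArg Subtype.val (hpp q p hq hp ⟨b', zpowers_le.2 hb hb'⟩
        ⟨a', zpowers_le.2 ha ha'⟩ ⟨j, by rw [Subgroup.orderOf_mk, hj]⟩
        ⟨i, by rw [Subgroup.orderOf_mk, hi]⟩).eq)
    exact (mem_cent.1 h1).eq
  have hall : ∀ s : G, orderOf s = 2 → IsMulCommutative (centralizer ({s} : Set G)) := by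
    intro s hs2
    obtain ⟨z, hz⟩ := huf.exists_fix s hs2
    obtain ⟨g, rfl⟩ := QuotientGroup.mk_surjective z
    rw [smul_mk_eq_iff] at hz
    set s' := g⁻¹ * s * g with hs'
    have hs'o : orderOf s' = 2 := by simpa [hs', hs2] using orderOf_conj' g⁻¹ s
    have hmem : ∀ a : G, Commute a s → g⁻¹ * a * g ∈ C := fun a ha => by
      rw [← hC s' hz hs'o, mem_cent]
      simpa [hs'] using (commute_conj_iff g⁻¹ a s).2 ha
    refine ⟨⟨fun a b => Subtype.ext ((MulAut.conj g⁻¹).injective ?_)⟩⟩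
    have := hab _ (hmem a (mem_cent.1 a.2)) _ (hmem b (mem_cent.1 b.2))
    simpa [MulAut.conj_apply, mul_assoc] using this
  haveI : Nontrivial G := ⟨⟨t, 1, invol_ne_one ht⟩⟩
  have heven : Even (Nat.card G) := even_iff_two_dvd.2 (ht ▸ orderOf_dvd_natCard t)
  rcases Cfsg.Agent.S2202.result heven hall with hcyc2 | hnorm | ⟨F, iF, iFt, A, iA, iAf, hchar, -, ⟨e⟩⟩
  · exfalso
    have hp2 : ∀ s : G, orderOf s = 2 → IsPGroup 2 (zpowers s) := fun s hs2 =>
      IsPGroup.of_card (n := 1) (by rw [Nat.card_zpowers, hs2, pow_one])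
    have hnorm : zpowers t₂ ≤ normalizer ((zpowers t : Subgroup G) : Set G) := by
      rw [zpowers_le, mem_normalizer_zpowers]
      exact hcyc t (self_mem_cent t) t₂ ht₂C
    obtain ⟨P, hP⟩ := ((hp2 t₂ ht₂).to_sup_of_normal_right' (hp2 t ht) hnorm).exists_le_sylow
    obtain ⟨g, hg⟩ := (hcyc2 P).exists_zpow_surjective
    have hmem : ∀ z ∈ (P : Subgroup G), z ∈ zpowers (g : G) := fun z hz => by
      obtain ⟨i, hi⟩ := hg ⟨z, hz⟩
      exact ⟨i, congrArg Subtype.val hi⟩
    exact ht₂ne (invol_unique ht₂ ht (hmem _ (hP (mem_sup_left (mem_zpowers t₂))))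
      (hmem _ (hP (mem_sup_right (mem_zpowers t)))))
  · exfalso
    obtain ⟨S⟩ : Nonempty (Sylow 2 G) := inferInstance
    have hsolv : Group.IsSolvable (S : Subgroup G) := by
      haveI := S.isPGroup'.isNilpotent
      infer_instance
    exact S.ne_bot_of_dvd_card heven.two_dvd (hs _ (hnorm S) hsolv)
  · have hA : Subsingleton A := ⟨fun a b => by
      have hc : ∀ a : A, e.symm (1, a) ∈ center G := fun a => mem_center_iff.2 fun g => by
        apply e.injective
        simp [Prod.ext_iff, mul_comm]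
      rw [hs.center_eq_bot] at hc
      have ha := e.symm.injective ((mem_bot.1 (hc a)).trans (map_one e.symm).symm)
      have hb := e.symm.injective ((mem_bot.1 (hc b)).trans (map_one e.symm).symm)
      exact (congrArg Prod.snd ha).trans (congrArg Prod.snd hb).symm⟩
    haveI : Unique A := uniqueOfSubsingleton 1
    let e' : G ≃* Matrix.ProjectiveSpecialLinearGroup (Fin 2) F :=
      (e.trans MulEquiv.prodUnique).trans CfsgLib.CAGroups.sl2EquivPSL2
    refine ⟨F, iF, iFt, ?_, Or.inl ⟨e'⟩⟩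
    by_contra hlt
    push Not at hlt
    have := CfsgLib.DicksonPSL2.isSolvable_PSL_small (F := F) hlt
    have htop : (⊤ : Subgroup G) = ⊥ := hs ⊤ inferInstance
      (Group.isSolvable_of_isSolvable_injective
        (f := e'.toMonoidHom.comp (⊤ : Subgroup G).subtype)
        (e'.injective.comp Subtype.val_injective))
    exact invol_ne_one ht (mem_bot.1 (htop ▸ mem_top t))

end CfsgLib.IIGroups70
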