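import Cfsg.Agent.IIGroups70.Frame
import Cfsg.Agent.AutPSL.AutOrder
import Cfsg.Agent.AutPSL.FieldAut
import Cfsg.Agent.AutPSL.Predicates
import Cfsg.Agent.DicksonPSL2.Borel
import Cfsg.Agent.Linear.Perfect
import Cfsg.Agent.Linear.PglDet
import Cfsg.Agent.LocalEvenBasic.BenderTI.Binary
import Cfsg.Agent.S0252
import Cfsg.Agent.S0253

/-!
# An outer involution over a known subgroup of index two

The involution induces no field automorphism, since a field involution centralises elements of odd
order generating non-normal subgroups of its centraliser; so the group embeds in `PGL(2, q)`.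
-/

set_option autoImplicit false
set_option linter.unusedSectionVars false
set_option linter.style.haveILetI false

namespace CfsgLib.IIGroups70

open Subgroup CfsgLib.AutPSL

variable {G : Type*} [Group G] [Finite G]

section PGL

variable (F : Type*) [Field F] [Fintype F]

/-- The action of `PGL(2, q)` on `PSL(2, q)`. -/
def pglAut : Matrix.ProjGenLinGroup (Fin 2) F →*
    MulAut (Matrix.ProjectiveSpecialLinearGroup (Fin 2) F) :=
  QuotientGroup.lift _ (innDiagHom (F := F) (n := 2)) fun z hz => by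
    rw [Matrix.GeneralLinearGroup.center_eq_range_scalar] at hz
    obtain ⟨u, rfl⟩ := hz
    rw [MonoidHom.mem_ker]
    show toPSLAut (conjSL _) = 1
    rw [conjSL_scalar, map_one]

theorem pglAut_mk (g : GL (Fin 2) F) :
    pglAut F (Matrix.ProjGenLinGroup.mk g) = toPSLAut (conjSL g) := rfl

theorem pglAut_injective : Function.Injective (pglAut F) := by
  obtain ⟨p, hp⟩ := CharP.exists F
  haveI : Fact p.Prime := ⟨CharP.char_is_prime F p⟩
  refine (injective_iff_map_eq_one _).2 fun x hx => ?_
  obtain ⟨g, rfl⟩ := Matrix.ProjGenLinGroup.mk_surjective x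
  rw [pglAut_mk, map_eq_one_iff _ (toPSLAut_injective p)] at hx
  obtain ⟨u, rfl⟩ := conjSL_eq_one_iff.1 hx
  exact Matrix.ProjGenLinGroup.mk_scalar u

theorem pglAut_toPGL (x : Matrix.ProjectiveSpecialLinearGroup (Fin 2) F) :
    pglAut F (Matrix.ProjectiveSpecialLinearGroup.toPGL x) = MulAut.conj x := by
  obtain ⟨A, rfl⟩ := QuotientGroup.mk_surjective x
  rw [Matrix.ProjectiveSpecialLinearGroup.toPGL_mk, pglAut_mk, conjSL_toGL, toPSLAut_conj]

theorem conj_toPGL (g : GL (Fin 2) F) (x : Matrix.ProjectiveSpecialLinearGroup (Fin 2) F) :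
    Matrix.ProjGenLinGroup.mk g * Matrix.ProjectiveSpecialLinearGroup.toPGL x *
        (Matrix.ProjGenLinGroup.mk g)⁻¹ =
      Matrix.ProjectiveSpecialLinearGroup.toPGL (toPSLAut (conjSL g) x) := by
  obtain ⟨A, rfl⟩ := QuotientGroup.mk_surjective x
  rw [toPSLAut_mk, Matrix.ProjectiveSpecialLinearGroup.toPGL_mk,
    Matrix.ProjectiveSpecialLinearGroup.toPGL_mk, ← map_inv, ← map_mul, ← map_mul]
  congr 1
  exact Units.ext rfl

theorem card_PGL_le :
    Nat.card (Matrix.ProjGenLinGroup (Fin 2) F) ≤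
      2 * Nat.card (Matrix.ProjectiveSpecialLinearGroup (Fin 2) F) := by
  obtain ⟨f, hf, hker⟩ := CfsgLib.Linear.exists_pgl_to_zmod (n := Fin 2) (F := F)
  have h := f.ker.card_mul_index
  rw [Subgroup.index_ker, MonoidHom.range_eq_top.2 hf, Subgroup.card_top,
    Nat.card_congr Multiplicative.toAdd, Nat.card_zmod, hker, Fintype.card_fin,
    Nat.card_congr (MonoidHom.ofInjective
      Matrix.ProjectiveSpecialLinearGroup.toPGL_injective).toEquiv.symm] at h
  rw [← h, mul_comm]
  exact Nat.mul_le_mul_right _ (Nat.le_of_dvd two_pos (Nat.gcd_dvd_left _ _))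

end PGL

/-- Away from four elements, a known group contains `PSL(2, q)` with index at most two, acting by
inner-diagonal automorphisms. -/
theorem Known.exists_core {M : Type*} [Group M] [Finite M] (hK : Known M) :
    ∃ (F : Type) (_ : Field F) (_ : Fintype F), 3 < Fintype.card F ∧
      (Odd (Fintype.card F) ∨ 8 ≤ Fintype.card F) ∧
      ∃ ι : Matrix.ProjectiveSpecialLinearGroup (Fin 2) F →* M, Function.Injective ι ∧
        Nat.card M ≤ 2 * Nat.card (Matrix.ProjectiveSpecialLinearGroup (Fin 2) F) ∧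
        ∀ m : M, ∃ g : GL (Fin 2) F, ∀ x, m * ι x * m⁻¹ = ι (toPSLAut (conjSL g) x) := by
  have hpsl : ∀ (F : Type) [Field F] [Fintype F],
      (M ≃* Matrix.ProjectiveSpecialLinearGroup (Fin 2) F) →
      ∃ ι : Matrix.ProjectiveSpecialLinearGroup (Fin 2) F →* M, Function.Injective ι ∧
        Nat.card M ≤ 2 * Nat.card (Matrix.ProjectiveSpecialLinearGroup (Fin 2) F) ∧
        ∀ m : M, ∃ g : GL (Fin 2) F, ∀ x, m * ι x * m⁻¹ = ι (toPSLAut (conjSL g) x) := by
    intro F _ _ e
    refine ⟨e.symm.toMonoidHom, e.symm.injective,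
      by rw [Nat.card_congr e.toEquiv]; omega, fun m => ?_⟩
    obtain ⟨A, hA⟩ := QuotientGroup.mk_surjective (e m)
    refine ⟨Matrix.SpecialLinearGroup.toGL A, fun x => e.injective ?_⟩
    simp only [map_mul, map_inv, MulEquiv.coe_toMonoidHom, MulEquiv.apply_symm_apply]
    rw [conjSL_toGL, toPSLAut_conj, MulAut.conj_apply, hA]
  obtain ⟨F, iF, iFt, hq, hiso⟩ := hK
  by_cases h4 : Fintype.card F = 4
  · -- replace four elements by five
    have hchar : ringChar F = 2 := by
      obtain ⟨n, hp, hn⟩ := FiniteField.card F (ringChar F)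
      have : ringChar F ∣ 2 ^ 2 := by
        rw [show (2 : ℕ) ^ 2 = 4 by norm_num, ← h4, hn]
        exact dvd_pow_self _ n.ne_zero
      exact (Nat.prime_dvd_prime_iff_eq hp Nat.prime_two).1 (hp.dvd_of_dvd_pow this)
    obtain ⟨e₀⟩ : Nonempty (M ≃* Matrix.ProjectiveSpecialLinearGroup (Fin 2) F) := by
      rcases hiso with he | he
      · exact he
      · exact ⟨he.some.trans (CfsgLib.BenderTI.pgl_equiv_psl hchar).some.symm⟩
    haveI : Fact (Nat.Prime 5) := ⟨by norm_num⟩
    obtain ⟨e₁⟩ := Cfsg.Agent.S0252.result h4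
    obtain ⟨e₂⟩ := Cfsg.Agent.S0253.result (F := ZMod 5) (ZMod.card 5)
    refine ⟨ZMod 5, inferInstance, inferInstance, by rw [ZMod.card]; norm_num,
      Or.inl (by rw [ZMod.card]; decide), hpsl (ZMod 5) ((e₀.trans e₁).trans e₂.symm)⟩
  have hq8 : Odd (Fintype.card F) ∨ 8 ≤ Fintype.card F := by
    rcases Nat.even_or_odd (Fintype.card F) with he | ho
    · refine Or.inr ?_
      obtain ⟨p, hp⟩ := CharP.exists F
      obtain ⟨n, hpp, hn⟩ := FiniteField.card F p
      rw [hn, Nat.even_pow' n.ne_zero, hpp.even_iff] at he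
      subst he
      have h3 : 3 ≤ (n : ℕ) := by
        by_contra hlt
        have h2 : (n : ℕ) ≤ 2 := by omega
        have := Nat.pow_le_pow_right two_pos h2
        omega
      calc 8 = 2 ^ 3 := by norm_num
        _ ≤ _ := hn ▸ Nat.pow_le_pow_right two_pos h3
    · exact Or.inl ho
  refine ⟨F, iF, iFt, hq, hq8, ?_⟩
  rcases hiso with he | he
  · exact hpsl F he.some
  obtain ⟨e⟩ := he
  refine ⟨e.symm.toMonoidHom.comp Matrix.ProjectiveSpecialLinearGroup.toPGL,
    e.symm.injective.comp Matrix.ProjectiveSpecialLinearGroup.toPGL_injective,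
    (Nat.card_congr e.toEquiv).trans_le (card_PGL_le F), fun m => ?_⟩
  obtain ⟨g, hg⟩ := Matrix.ProjGenLinGroup.mk_surjective (e m)
  refine ⟨g, fun x => e.injective ?_⟩
  simp only [MonoidHom.comp_apply, map_mul, map_inv, MulEquiv.coe_toMonoidHom,
    MulEquiv.apply_symm_apply]
  rw [← hg, conj_toPGL]

theorem Known.extend (h : II G) (hs : SS G) {M : Subgroup G} (hM : M.index = 2) {s : G}
    (hso : orderOf s = 2) (hsM : s ∉ M) (hK : Known M) : Known G := by
  classical
  haveI hMn : M.Normal := normal_of_index_eq_two hM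
  obtain ⟨F, iF, iFt, hq, hq8, ι₀, hι₀, hcardM, hin⟩ := hK.exists_core
  haveI : IsSimpleGroup (Matrix.ProjectiveSpecialLinearGroup (Fin 2) F) := CfsgLib.Linear.isSimpleGroup_PSL_of 2 le_rfl fun _ => by omega
  obtain ⟨p, hp⟩ := CharP.exists F
  haveI : Fact p.Prime := ⟨CharP.char_is_prime F p⟩
  set ι : (Matrix.ProjectiveSpecialLinearGroup (Fin 2) F) →* G := M.subtype.comp ι₀ with hιdef
  have hι : Function.Injective ι := M.subtype_injective.comp hι₀
  have hιM : ∀ x, ι x ∈ M := fun x => (ι₀ x).2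
  set L := ι.range with hL
  have hLcard : Nat.card L = Nat.card (Matrix.ProjectiveSpecialLinearGroup (Fin 2) F) :=
    Nat.card_congr (MonoidHom.ofInjective hι).toEquiv.symm
  have hGcard : Nat.card G = 2 * Nat.card M := by rw [← M.card_mul_index, hM, mul_comm]
  have hPbig : 2 < Nat.card (Matrix.ProjectiveSpecialLinearGroup (Fin 2) F) := by
    have h2 := CfsgLib.Linear.card_PSL_mul (n := Fin 2) (F := F)
    rw [Fintype.card_fin, CfsgLib.Linear.card_SL_two] at h2
    have h3 : Nat.gcd 2 (Fintype.card F - 1) ≤ 2 := Nat.le_of_dvd two_pos (Nat.gcd_dvd_left _ _)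
    have h4 : 4 * 15 ≤ Fintype.card F * (Fintype.card F ^ 2 - 1) :=
      Nat.mul_le_mul (by omega) (by
        have : 16 ≤ Fintype.card F ^ 2 := by nlinarith
        omega)
    by_contra hlt
    push Not at hlt
    have := Nat.mul_le_mul h3 hlt
    omega
  have hconjM : ∀ m : M, ∀ x, ∃ y, (m : G) * ι x * (m : G)⁻¹ = ι y := fun m x => by
    obtain ⟨g, hg⟩ := hin m
    exact ⟨_, congrArg Subtype.val (hg x)⟩
  -- `L` is normal in `G`
  have hLn : ∀ a : G, ∀ x, ∃ y, a * ι x * a⁻¹ = ι y := by
    intro a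
    let N : Subgroup (Matrix.ProjectiveSpecialLinearGroup (Fin 2) F) := (L.map (MulAut.conj a).toMonoidHom).comap ι
    haveI : N.Normal := ⟨fun n hn z => by
      obtain ⟨_, ⟨x, rfl⟩, hx⟩ := hn
      have hx' : a * ι x * a⁻¹ = ι n := hx
      obtain ⟨y, hy⟩ := hconjM ⟨a⁻¹ * ι z * a, by
        have := hMn.conj_mem _ (hιM z) a⁻¹
        rwa [inv_inv] at this⟩ x
      refine ⟨ι y, ⟨y, rfl⟩, ?_⟩
      show a * ι y * a⁻¹ = ι (z * n * z⁻¹)
      rw [map_mul, map_mul, map_inv, ← hy, ← hx']
      group⟩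
    intro x
    rcases (inferInstance : N.Normal).eq_bot_or_eq_top with hN | hN
    · exfalso
      let f : (Matrix.ProjectiveSpecialLinearGroup (Fin 2) F) × (Matrix.ProjectiveSpecialLinearGroup (Fin 2) F) → M := fun q => ⟨ι q.1 * (a * ι q.2 * a⁻¹),
        mul_mem (hιM _) (hMn.conj_mem _ (hιM _) a)⟩
      have hf : Function.Injective f := by
        rintro ⟨q₁, q₂⟩ ⟨r₁, r₂⟩ e
        have e' : ι q₁ * (a * ι q₂ * a⁻¹) = ι r₁ * (a * ι r₂ * a⁻¹) := congrArg Subtype.val e
        have h1 : r₁⁻¹ * q₁ ∈ N := by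
          refine ⟨ι (r₂ * q₂⁻¹), ⟨_, rfl⟩, ?_⟩
          show a * ι (r₂ * q₂⁻¹) * a⁻¹ = ι (r₁⁻¹ * q₁)
          rw [map_mul, map_mul, map_inv, map_inv]
          calc a * (ι r₂ * (ι q₂)⁻¹) * a⁻¹
              = (ι r₁)⁻¹ * (ι r₁ * (a * ι r₂ * a⁻¹)) * (a * ι q₂ * a⁻¹)⁻¹ := by group
            _ = (ι r₁)⁻¹ * ι q₁ := by rw [← e']; group
        rw [hN, mem_bot, inv_mul_eq_one] at h1
        subst h1
        have h2 : a * ι q₂ * a⁻¹ = a * ι r₂ * a⁻¹ := mul_left_cancel e'
        exact Prod.ext rfl (hι (mul_left_cancel (mul_right_cancel h2)))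
      have h1 := Nat.card_le_card_of_injective f hf
      rw [Nat.card_prod] at h1
      nlinarith
    · have hle : L ≤ L.map (MulAut.conj a).toMonoidHom := by
        rintro _ ⟨z, rfl⟩
        exact (hN.ge (mem_top z) : z ∈ N)
      have heq := eq_of_le_of_card_ge hle
        (by rw [card_map_of_injective (MulAut.conj a).injective])
      obtain ⟨y, hy⟩ := heq.ge ⟨ι x, ⟨x, rfl⟩, rfl⟩
      exact ⟨y, hy.symm⟩
  haveI hLnormal : L.Normal := ⟨fun l hl a => by
    obtain ⟨x, rfl⟩ := hl
    obtain ⟨y, hy⟩ := hLn a x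
    exact ⟨y, hy.symm⟩⟩
  -- the action on `L`
  let e' : (Matrix.ProjectiveSpecialLinearGroup (Fin 2) F) ≃* L := MonoidHom.ofInjective hι
  let c : G →* MulAut (Matrix.ProjectiveSpecialLinearGroup (Fin 2) F) :=
    { toFun := fun a => e'.trans ((MulAut.conjNormal a).trans e'.symm)
      map_one' := MulEquiv.ext fun x => by simp
      map_mul' := fun a b => MulEquiv.ext fun x => by simp }
  have hc : ∀ a x, ι (c a x) = a * ι x * a⁻¹ := fun a x => by
    have h1 : ((e' (c a x) : L) : G) = a * ((e' x : L) : G) * a⁻¹ := by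
      simp [c, MulAut.conjNormal_apply]
    exact h1
  have hcM : ∀ m ∈ M, ∃ g : GL (Fin 2) F, c m = toPSLAut (conjSL g) := by
    intro m hm
    obtain ⟨g, hg⟩ := hin ⟨m, hm⟩
    exact ⟨g, MulEquiv.ext fun x => hι ((hc m x).trans (congrArg Subtype.val (hg x)))⟩
  have hcker : Function.Injective c := by
    refine (injective_iff_map_eq_one _).2 fun a ha => ?_
    have hN : c.ker = ⊥ := by
      refine hs _ inferInstance ?_
      have hle : Nat.card c.ker * Nat.card (Matrix.ProjectiveSpecialLinearGroup (Fin 2) F) ≤ Nat.card G := by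
        rw [← Nat.card_prod]
        refine Nat.card_le_card_of_injective (fun q : c.ker × (Matrix.ProjectiveSpecialLinearGroup (Fin 2) F) => (q.1 : G) * ι q.2) ?_
        rintro ⟨⟨q₁, hq₁⟩, q₂⟩ ⟨⟨r₁, hr₁⟩, r₂⟩ e
        have e' : q₁ * ι q₂ = r₁ * ι r₂ := e
        have hmem : ι (r₂ * q₂⁻¹) ∈ c.ker := by
          rw [show ι (r₂ * q₂⁻¹) = r₁⁻¹ * q₁ by
            rw [map_mul, map_inv, mul_inv_eq_iff_eq_mul, mul_assoc, e', inv_mul_cancel_left]]
          exact mul_mem (inv_mem hr₁) hq₁
        have h1 : r₂ * q₂⁻¹ = 1 := by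
          have h2 : MulAut.conj (r₂ * q₂⁻¹) = 1 := MulEquiv.ext fun x => hι (by
            have := congrArg (fun φ : MulAut (Matrix.ProjectiveSpecialLinearGroup (Fin 2) F) => ι (φ x)) (MonoidHom.mem_ker.1 hmem)
            simp only [hc, MulAut.one_apply] at this
            simpa [MulAut.conj_apply, mul_assoc] using this)
          rw [← pglAut_toPGL, map_eq_one_iff _ (pglAut_injective F),
            map_eq_one_iff _ Matrix.ProjectiveSpecialLinearGroup.toPGL_injective] at h2
          exact h2
        have h3 : r₂ = q₂ := mul_inv_eq_one.1 h1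
        subst h3
        exact Prod.ext (Subtype.ext (mul_right_cancel e')) rfl
      have h4 : Nat.card c.ker ≤ 4 :=
        Nat.le_of_mul_le_mul_right (hle.trans (by omega)) (by omega : 0 < Nat.card (Matrix.ProjectiveSpecialLinearGroup (Fin 2) F))
      have h0 : 0 < Nat.card c.ker := Nat.card_pos
      rcases show Nat.card c.ker = 2 ^ 0 * 3 ^ 0 ∨ Nat.card c.ker = 2 ^ 1 * 3 ^ 0 ∨
          Nat.card c.ker = 2 ^ 0 * 3 ^ 1 ∨ Nat.card c.ker = 2 ^ 2 * 3 ^ 0 by
        omega with e | e | e | e <;>
      exact CfsgLib.Characters.isSolvable_of_card_eq_primePow_mul 2 3 _ _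
        Nat.prime_two Nat.prime_three e.dvd
    exact mem_bot.1 (hN ▸ MonoidHom.mem_ker.2 ha)
  -- the outer involution induces an inner-diagonal automorphism
  obtain ⟨g, σ, hform⟩ : ∃ (g : GL (Fin 2) F) (σ : F ≃+* F),
      c s = toPSLAut (conjSL g * fieldSL σ) := by
    obtain ⟨g, σ, γ, hγ, hβ⟩ := exists_form le_rfl (c s)
    rcases hγ with rfl | rfl
    · exact ⟨g, σ, by rw [hβ, mul_one]⟩
    · obtain ⟨w, hw⟩ := invTransSL_fin_two (F := F)
      exact ⟨g * mapGL σ w, σ, by
        rw [hβ, hw, mul_assoc, fieldSL_mul_conjSL, ← mul_assoc, ← map_mul]⟩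
  have hcs2 : c s ^ 2 = 1 := by rw [← map_pow, sq, invol_sq hso, map_one]
  rw [hform] at hcs2
  obtain ⟨hσ2, -⟩ := (mul_field_pow_eq_one_iff p σ g 2).1 hcs2
  have hσ1 : σ = 1 := by
    by_contra hne
    have hσo : orderOf σ = 2 := orderOf_eq_prime hσ2 hne
    obtain ⟨t, ht⟩ := isConj_field_of_pow_eq_one le_rfl hσo two_pos g hcs2
    -- fixed matrices give elements commuting with `s`
    let j : (Matrix.ProjectiveSpecialLinearGroup (Fin 2) F) →* G := ι.comp (toPSLAut (conjSL t)).toMonoidHom
    have hj : Function.Injective j := hι.comp (MulEquiv.injective _)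
    have hfix : ∀ A : Matrix.SpecialLinearGroup (Fin 2) F, fieldSL σ A = A →
        Commute (j (QuotientGroup.mk A)) s := by
      intro A hA
      have h1 : c s (toPSLAut (conjSL t) (QuotientGroup.mk A)) =
          toPSLAut (conjSL t) (QuotientGroup.mk A) := by
        rw [hform, ht, MulAut.mul_apply, MulAut.mul_apply, MulAut.inv_apply,
          MulEquiv.symm_apply_apply, toPSLAut_mk, hA]
      have h2 := congrArg ι h1
      rw [hc] at h2
      exact (mul_inv_eq_iff_eq_mul.1 h2).symm
    have hkey : ∀ A B : Matrix.SpecialLinearGroup (Fin 2) F, fieldSL σ A = A → fieldSL σ B = B →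
        Odd (orderOf (QuotientGroup.mk A : (Matrix.ProjectiveSpecialLinearGroup (Fin 2) F))) → A.1 1 0 = 0 → (B * A * B⁻¹).1 1 0 ≠ 0 →
        False := by
      intro A B hA hB ho hA0 hne0
      have h1 : j (QuotientGroup.mk B) * j (QuotientGroup.mk A) * (j (QuotientGroup.mk B))⁻¹ ∈
          zpowers (j (QuotientGroup.mk A)) :=
        h.odd_conj_mem hso (hfix A hA) (by rwa [orderOf_injective j hj]) (hfix B hB)
      rw [← map_inv, ← map_mul, ← map_mul, ← MonoidHom.map_zpowers,
        mem_map_iff_mem hj] at h1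
      refine hne0 ?_
      have h2 : zpowers (QuotientGroup.mk A : (Matrix.ProjectiveSpecialLinearGroup (Fin 2) F)) ≤ CfsgLib.DicksonPSL2.BP := by
        rw [zpowers_le]
        exact (CfsgLib.DicksonPSL2.proj_mem_BP_iff A).2 hA0
      exact (CfsgLib.DicksonPSL2.proj_mem_BP_iff (B * A * B⁻¹)).1 (h2 h1)
    have hB : fieldSL σ (xe (1 : Fin 2) 0 (1 : F)) = xe 1 0 1 := by rw [fieldSL_xe, map_one]
    have h01 : (0 : Fin 2) ≠ 1 := by decide
    have h10 : (1 : Fin 2) ≠ 0 := by decide
    rcases Nat.even_or_odd (Fintype.card F) with he | ho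
    · have hq' : 8 ≤ Fintype.card F := hq8.resolve_left (Nat.not_odd_iff_even.2 he)
      haveI : CharP F 2 := by
        obtain ⟨n, hpp, hn⟩ := FiniteField.card F p
        rw [hn, Nat.even_pow' n.ne_zero, hpp.even_iff] at he
        subst he
        exact hp
      have hσσ : ∀ x : F, σ (σ x) = x := fun x => by
        have := congrArg (fun φ : F ≃+* F => φ x) hσ2
        simpa [sq] using this
      obtain ⟨a, ha, ha0, ha1⟩ : ∃ a : F, σ a = a ∧ a ≠ 0 ∧ a ≠ 1 := by
        by_contra hno
        push Not at hno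
        have hroot : ∀ x : F, x = 0 ∨ x = 1 ∨ x * x + x + 1 = 0 := by
          intro x
          by_cases hx0 : x = 0
          · exact Or.inl hx0
          by_cases hx1 : x = 1
          · exact Or.inr (Or.inl hx1)
          refine Or.inr (Or.inr ?_)
          have hprod : x * σ x = 1 := hno _ (by rw [map_mul, hσσ, mul_comm])
            (mul_ne_zero hx0 ((map_ne_zero σ).2 hx0))
          by_cases hsum : x + σ x = 0
          · exfalso
            rw [← CharTwo.add_eq_zero.1 hsum] at hprod
            refine hx1 ?_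
            have : (x + 1) * (x + 1) = 0 := by rw [← sq, CharTwo.add_sq]; simp [sq, hprod, CharTwo.add_self_eq_zero]
            exact CharTwo.add_eq_zero.1 (mul_self_eq_zero.1 this)
          · have hs1 : x + σ x = 1 := hno _ (by rw [map_add, hσσ, add_comm]) hsum
            have hσx : σ x = 1 + x := by
              rw [← hs1, add_comm x (σ x), add_assoc, CharTwo.add_self_eq_zero, add_zero]
            rw [hσx, mul_add, mul_one, add_comm] at hprod
            rw [hprod, CharTwo.add_self_eq_zero]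
        have hcard : ∀ y : F, y * y + y + 1 = 0 → ∀ x : F, x = 0 ∨ x = 1 ∨ x = y ∨ x = y + 1 := by
          intro y hy x
          rcases hroot x with h' | h' | h'
          · exact Or.inl h'
          · exact Or.inr (Or.inl h')
          · right; right
            have h0 : (x + y) * (x + y + 1) = 0 := by
              have : (x + y) * (x + y + 1) = (x * x + x + 1) + (y * y + y + 1) := by
                ring_nf
                simp [CharTwo.two_eq_zero]
              rw [this, h', hy, add_zero]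
            rcases mul_eq_zero.1 h0 with e | e
            · exact Or.inl (CharTwo.add_eq_zero.1 e)
            · exact Or.inr (CharTwo.add_eq_zero.1 (by rw [← add_assoc]; exact e))
        have hsub : ∃ S : Finset F, S.card ≤ 4 ∧ ∀ x : F, x ∈ S := by
          by_cases hy : ∃ y : F, y * y + y + 1 = 0
          · obtain ⟨y, hy⟩ := hy
            exact ⟨{0, 1, y, y + 1}, Finset.card_le_four, fun x => by simpa using hcard y hy x⟩
          · exact ⟨{0, 1}, Finset.card_le_two.trans (by norm_num), fun x => by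
              rcases hroot x with h' | h' | h'
              · simp [h']
              · simp [h']
              · exact absurd ⟨x, h'⟩ hy⟩
        obtain ⟨S, hS, hall⟩ := hsub
        have := Finset.card_le_card (fun x _ => hall x : (Finset.univ : Finset F) ⊆ S)
        rw [Finset.card_univ] at this
        omega
      let A : Matrix.SpecialLinearGroup (Fin 2) F :=
        ⟨!![a, 0; 0, a⁻¹], by rw [Matrix.det_fin_two_of]; field_simp; ring⟩
      have hAfix : fieldSL σ A = A := by
        apply Subtype.ext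
        rw [fieldSL_coe]
        ext i k
        fin_cases i <;> fin_cases k <;> simp [A, ha]
      have hApow : ∀ n : ℕ, (A ^ n).1 = !![a ^ n, 0; 0, a⁻¹ ^ n] := by
        intro n
        induction n with
        | zero => simp [Matrix.one_fin_two]
        | succ n ih =>
          rw [pow_succ, Matrix.SpecialLinearGroup.coe_mul, ih]
          ext i k
          fin_cases i <;> fin_cases k <;> simp [A, Matrix.mul_apply, Fin.sum_univ_two, pow_succ]
      refine hkey A (xe 1 0 1) hAfix hB ?_ (by simp [A]) ?_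
      · have hA1 : A ^ (Fintype.card F - 1) = 1 := by
          apply Subtype.ext
          rw [hApow, FiniteField.pow_card_sub_one_eq_one a ha0,
            FiniteField.pow_card_sub_one_eq_one a⁻¹ (inv_ne_zero ha0)]
          simp [Matrix.one_fin_two]
        refine Odd.of_dvd_nat ?_ (orderOf_dvd_of_pow_eq_one (n := Fintype.card F - 1) ?_)
        · obtain ⟨k, hk⟩ := he
          exact ⟨k - 1, by omega⟩
        · rw [← QuotientGroup.mk_pow, hA1]; rfl
      · intro e
        rw [Matrix.SpecialLinearGroup.coe_mul, Matrix.SpecialLinearGroup.coe_mul,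
          Matrix.SpecialLinearGroup.coe_inv] at e
        have hee : a + a⁻¹ = 0 := by
          simpa [A, xe_coe h10, Matrix.mul_apply, Fin.sum_univ_two, Matrix.single_apply,
            Matrix.one_apply, Matrix.SpecialLinearGroup.coe_inv, Matrix.adjugate_fin_two,
            CharTwo.neg_eq] using e
        rw [CharTwo.add_eq_zero] at hee
        have h2 : (a + 1) * (a + 1) = 0 := by
          have : a * a = 1 := by nth_rw 2 [hee]; exact mul_inv_cancel₀ ha0
          rw [← sq, CharTwo.add_sq]; simp [sq, this, CharTwo.add_self_eq_zero]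
        exact ha1 (CharTwo.add_eq_zero.1 (mul_self_eq_zero.1 h2))
    · have hA : fieldSL σ (xe (0 : Fin 2) 1 (1 : F)) = xe 0 1 1 := by rw [fieldSL_xe, map_one]
      refine hkey _ _ hA hB ?_ ?_ ?_
      · have hodd : Odd p := by
          obtain ⟨n, hpp, hn⟩ := FiniteField.card F p
          rw [hn] at ho
          exact Odd.of_dvd_nat ho (dvd_pow_self p n.ne_zero)
        refine Odd.of_dvd_nat hodd (orderOf_dvd_of_pow_eq_one ?_)
        rw [← QuotientGroup.mk_pow, ← pow_one p, xe_pow_char p]
        rfl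
      · simp [xe_coe h01]
      · simp [xe_coe h01, xe_coe h10, Matrix.mul_apply, Fin.sum_univ_two, Matrix.single_apply,
          Matrix.one_apply, Matrix.SpecialLinearGroup.coe_inv, Matrix.adjugate_fin_two]
  -- embed into `PGL`
  have hcs : c s ∈ (pglAut F).range :=
    ⟨Matrix.ProjGenLinGroup.mk g, by rw [pglAut_mk, hform, hσ1, map_one fieldSL, mul_one]⟩
  have hrange : ∀ a : G, c a ∈ (pglAut F).range := by
    intro a
    by_cases ha : a ∈ M
    · obtain ⟨g', hg'⟩ := hcM a ha
      exact ⟨Matrix.ProjGenLinGroup.mk g', by rw [pglAut_mk, hg']⟩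
    · obtain ⟨g', hg'⟩ := hcM (a * s) ((mul_mem_iff_of_index_two hM).2
        ⟨fun h' => absurd h' ha, fun h' => absurd h' hsM⟩)
      have : c a = c (a * s) * (c s)⁻¹ := by rw [map_mul, mul_inv_cancel_right]
      rw [this]
      exact mul_mem ⟨Matrix.ProjGenLinGroup.mk g', by rw [pglAut_mk, hg']⟩ (inv_mem hcs)
  let φ : G →* Matrix.ProjGenLinGroup (Fin 2) F :=
    (MonoidHom.ofInjective (pglAut_injective F)).symm.toMonoidHom.comp
      (c.codRestrict (pglAut F).range hrange)
  have hφ : Function.Injective φ := by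
    intro a b e
    have e2 := (MonoidHom.ofInjective (pglAut_injective F)).symm.injective e
    exact hcker (congrArg Subtype.val e2)
  have hle : Nat.card (Matrix.ProjGenLinGroup (Fin 2) F) ≤ Nat.card G := by
    have h1 : Nat.card (Matrix.ProjectiveSpecialLinearGroup (Fin 2) F) ≤ Nat.card M := Nat.card_le_card_of_injective _ hι₀
    have h2 := card_PGL_le F
    omega
  haveI : Finite (Matrix.ProjGenLinGroup (Fin 2) F) := Finite.of_surjective _ Matrix.ProjGenLinGroup.mk_surjective
  exact ⟨F, iF, iFt, hq, Or.inr ⟨MulEquiv.ofBijective φ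
    ((Nat.bijective_iff_injective_and_card φ).2 ⟨hφ,
      le_antisymm (Nat.card_le_card_of_injective φ hφ) hle⟩)⟩⟩

end CfsgLib.IIGroups70
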