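import Cfsg.Agent.IIGroups70.Basic
import Cfsg.Agent.BSW.Theorem
import Cfsg.Agent.Classification.PSLTwoGeneral.Main
import Cfsg.Agent.DicksonPSL2.MinimalSimple

/-!
# A generalised dihedral centraliser

If `C(t)` is the extension of an abelian subgroup with a single involution by an inverting
involution and contains a Sylow 2-subgroup, then either the group has a subgroup of index two
missing an involution or all involutions are conjugate and the Brauer–Suzuki–Wall theorem applies.
-/

set_option autoImplicit false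
set_option linter.unusedSectionVars false
set_option linter.style.haveILetI false

namespace CfsgLib.IIGroups70

open Subgroup

variable {G : Type*} [Group G] [Finite G]

theorem SS.not_isSolvable [Nontrivial G] (hs : SS G) : ¬ Group.IsSolvable G := fun hsol => by
  have := hs ⊤ inferInstance inferInstance
  obtain ⟨g, hg⟩ := exists_ne (1 : G)
  exact hg (mem_bot.1 (this ▸ mem_top g))

theorem Known.of_psl [Nontrivial G] (hs : SS G) {F : Type} [iF : Field F] [iFt : Fintype F]
    (e : G ≃* Matrix.ProjectiveSpecialLinearGroup (Fin 2) F) : Known G := by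
  refine ⟨F, iF, iFt, ?_, Or.inl ⟨e⟩⟩
  by_contra hlt
  push Not at hlt
  have := CfsgLib.DicksonPSL2.isSolvable_PSL_small (F := F) hlt
  exact hs.not_isSolvable (Group.isSolvable_of_isSolvable_injective (f := e.toMonoidHom) e.injective)

/-- The centraliser of `t` is `K ∪ Ks`, `s` inverting `K`, a TI subgroup with one involution. -/
structure Frame (t s : G) (K : Subgroup G) : Prop where
  ht : orderOf t = 2
  hsi : orderOf s = 2
  le : K ≤ centralizer ({t} : Set G)
  t_mem : t ∈ K
  s_mem : s ∈ centralizer ({t} : Set G)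
  s_not : s ∉ K
  inverts : ∀ x ∈ K, s * x * s⁻¹ = x⁻¹
  cover : ∀ g ∈ centralizer ({t} : Set G), g ∈ K ∨ g * s ∈ K
  invol : ∀ k ∈ K, orderOf k = 2 → k = t
  ti : ∀ g, g ∉ centralizer ({t} : Set G) → ∀ x ∈ K, g * x * g⁻¹ ∈ K → x = 1
  sylow : ∃ R : Sylow 2 G, (R : Subgroup G) ≤ centralizer ({t} : Set G)

theorem Frame.known (hs : SS G) (hns : ¬ Split G) {t s : G} {K : Subgroup G} (d : Frame t s K) :
    Known G := by
  classical
  haveI : Fact (Nat.Prime 2) := ⟨Nat.prime_two⟩
  haveI : Nontrivial G := ⟨⟨t, 1, invol_ne_one d.ht⟩⟩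
  obtain ⟨R, hR⟩ := d.sylow
  set C := centralizer ({t} : Set G) with hC
  have hinv : ∀ x ∈ K, s * x * s = x⁻¹ := fun x hx => by
    rw [← d.inverts x hx, invol_inv d.hsi]
  have hKab := CfsgLib.CITGroups.commute_of_inverted (invol_sq d.hsi) hinv
  -- two elements of `C` outside `K` multiply into `K`
  have hmul : ∀ a ∈ C, ∀ b ∈ C, a ∉ K → b ∉ K → a * b ∈ K := by
    intro a ha b hb haK hbK
    have ha' := (d.cover a ha).resolve_left haK
    have hb' := (d.cover b hb).resolve_left hbK
    rw [show a * b = (a * s) * (s⁻¹ * (b * s) * s⁻¹) by group]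
    refine mul_mem ha' ?_
    rw [invol_inv d.hsi, hinv _ hb']
    exact inv_mem hb'
  have hnormal : ∀ c ∈ C, ∀ x ∈ K, c * x * c⁻¹ ∈ K := by
    intro c hc x hx
    by_cases hcK : c ∈ K
    · exact mul_mem (mul_mem hcK hx) (inv_mem hcK)
    · have hc' := (d.cover c hc).resolve_left hcK
      rw [show c * x * c⁻¹ = (c * s) * (s⁻¹ * x * s) * (c * s)⁻¹ by group, invol_inv d.hsi,
        hinv x hx]
      exact mul_mem (mul_mem hc' (inv_mem hx)) (inv_mem hc')
  obtain ⟨a, haR, haK⟩ : ∃ a ∈ (R : Subgroup G), a ∉ K := by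
    by_contra hno
    push Not at hno
    obtain ⟨Q, hQ⟩ := ((IsPGroup.of_card (n := 1) (by rw [Nat.card_zpowers, d.hsi, pow_one]) :
      IsPGroup 2 (zpowers s)).comap_subtype : IsPGroup 2 ((zpowers s).subgroupOf C)).exists_le_sylow
    obtain ⟨c, hc⟩ := MulAction.exists_smul_eq (↥C) Q (R.subtype hR)
    have hm : MulAut.conj c (⟨s, d.s_mem⟩ : C) ∈ (R.subtype hR : Subgroup C) := by
      rw [← hc]
      exact ⟨⟨s, d.s_mem⟩, hQ (mem_subgroupOf.2 (mem_zpowers s)), rfl⟩
    have hm' : (c : G) * s * (c : G)⁻¹ ∈ K := hno _ hm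
    refine d.s_not ?_
    have := hnormal (c : G)⁻¹ (inv_mem c.2) _ hm'
    simpa [mul_assoc] using this
  set M₀ := (R : Subgroup G) ⊓ K with hM₀
  have hidx : M₀.relIndex R = 2 := by
    rw [relIndex, index_eq_two_iff]
    refine ⟨⟨a, haR⟩, fun b => ?_⟩
    simp only [mem_subgroupOf, Subgroup.coe_mul, hM₀, mem_inf, mul_mem b.2 haR, b.2, true_and]
    by_cases hb : (b : G) ∈ K
    · refine Or.inr ⟨hb, fun h' => haK ?_⟩
      simpa using mul_mem (inv_mem hb) h'
    · exact Or.inl ⟨hmul _ (hR b.2) _ (hR haR) hb haK, hb⟩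
  have hone : ∀ u : G, orderOf u = 2 → ∃ g : G, g⁻¹ * u * g = t := by
    intro u hu
    obtain ⟨g, hg⟩ := exists_conj_mem_of_not_split hns R M₀ inf_le_left hidx hu
    exact ⟨g, d.invol _ hg.2 (by simpa [hu] using orderOf_conj' g⁻¹ u)⟩
  have hconj : ∀ x y : G, orderOf x = 2 → orderOf y = 2 → IsConj x y := by
    intro x y hx hy
    obtain ⟨g, hg⟩ := hone x hx
    obtain ⟨g', hg'⟩ := hone y hy
    refine isConj_iff.2 ⟨g' * g⁻¹, ?_⟩
    rw [show g' * g⁻¹ * x * (g' * g⁻¹)⁻¹ = g' * (g⁻¹ * x * g) * g'⁻¹ by group, hg, ← hg']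
    group
  have hconc := CfsgLib.BSW.conclusion_of_centralizer t d.ht K
    ⟨⟨fun x y => Subtype.ext (hKab x x.2 y y.2)⟩⟩ d.le d.t_mem s d.hsi d.s_mem d.s_not ?_ ?_
    d.inverts ?_ hconj
  · obtain ⟨F, iF, iFt, -, ⟨e⟩⟩ :=
      CfsgLib.Classification.PSLTwoGeneral.exists_equiv_of_conclusion hconc fun h12 =>
        hs.not_isSolvable (CfsgLib.Characters.isSolvable_of_card_eq_primePow_mul 2 3 2 1
          Nat.prime_two Nat.prime_three (by rw [h12]; norm_num))
    exact Known.of_psl hs e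
  · refine le_antisymm (sup_le d.le (zpowers_le.2 d.s_mem)) fun g hg => ?_
    rcases d.cover g hg with h' | h'
    · exact mem_sup_left h'
    · rw [show g = g * s * s⁻¹ by group]
      exact mul_mem (mem_sup_left h') (inv_mem (mem_sup_right (mem_zpowers s)))
  · refine le_antisymm (fun x hx => ?_) (zpowers_le.2 ⟨d.t_mem, ?_⟩)
    · obtain ⟨hxK, hxs⟩ := hx
      have h1 := d.inverts x hxK
      rw [(mem_cent.1 hxs).symm.eq, mul_inv_cancel_right] at h1
      by_cases hx1 : x = 1
      · rw [hx1]; exact one_mem _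
      · rw [d.invol x hxK (orderOf_two_of (by nth_rw 2 [h1]; exact mul_inv_cancel x) hx1)]
        exact mem_zpowers t
    · exact mem_cent.2 (mem_cent.1 d.s_mem).symm
  · intro g hg
    refine (eq_bot_iff_forall _).2 fun x hx => ?_
    obtain ⟨hxK, z, hz, rfl⟩ := hx
    have := d.ti g hg z hz (by simpa using hxK)
    simp [this]

end CfsgLib.IIGroups70
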