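import Cfsg.Agent.IIGroups70.NoLargeOutside
import Cfsg.Agent.IIGroups70.Frame
import Cfsg.Agent.FusionMetacyclic.Extension

/-!
# A centraliser with nontrivial odd part and one involution with this centraliser

The centraliser is generalised dihedral and contains a Sylow 2-subgroup.
-/

set_option autoImplicit false
set_option linter.unusedSectionVars false
set_option linter.style.haveILetI false

namespace CfsgLib.IIGroups70

open Subgroup

variable {G : Type*} [Group G] [Finite G]

/-- A 2-group with a self-centralising four subgroup has a cyclic subgroup of index at most two. -/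
theorem exists_cyclic_index_two {P : Type*} [Group P] [Finite P] (hP : IsPGroup 2 P)
    (Q : Subgroup P) (hcard : Nat.card Q = 4) (hexp : ∀ q ∈ Q, q ^ 2 = 1)
    (hC : ∀ g : P, (∀ q ∈ Q, g * q = q * g) → g ∈ Q) :
    ∃ b : P, (zpowers b).index = 2 := by
  haveI : Fact (Nat.Prime 2) := ⟨Nat.prime_two⟩
  by_cases hne : Q = ⊤
  · haveI : Nontrivial Q := Finite.one_lt_card_iff_nontrivial.1 (by omega)
    obtain ⟨b, hb⟩ := exists_ne (1 : Q)
    refine ⟨b, ?_⟩
    have h2 : orderOf (b : P) = 2 :=
      orderOf_eq_prime (hexp b b.2) fun e => hb (Subtype.ext e)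
    have h := (zpowers (b : P)).card_mul_index
    rw [Nat.card_zpowers, h2, show Nat.card P = 4 by rw [← hcard, hne, card_top]] at h
    omega
  rcases CfsgLib.FusionMetacyclic.of_klein_self_centralizing hP Q hcard hexp hC hne with
    ⟨n, ⟨e⟩⟩ | ⟨n, hn, hc, x, y, hx, -, -⟩
  · refine ⟨e.symm (DihedralGroup.r 1), ?_⟩
    have hcard' : Nat.card P = 2 * n := by rw [Nat.card_congr e.toEquiv, DihedralGroup.nat_card]
    have hn0 : n ≠ 0 := by
      rintro rfl
      exact Nat.card_pos.ne' (hcard'.trans (mul_zero 2))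
    haveI : NeZero n := ⟨hn0⟩
    have h := (zpowers (e.symm (DihedralGroup.r 1))).card_mul_index
    rw [Nat.card_zpowers, MulEquiv.orderOf_eq, DihedralGroup.orderOf_r_one, hcard'] at h
    exact Nat.eq_of_mul_eq_mul_left (Nat.pos_of_ne_zero hn0) (h.trans (mul_comm _ _))
  · refine ⟨x, ?_⟩
    have h := (zpowers x).card_mul_index
    rw [Nat.card_zpowers, hx, hc, pow_succ] at h
    exact Nat.eq_of_mul_eq_mul_left (by positivity) h

theorem known_of_unique_tight (h : II G) (hs : SS G) (hns : ¬ Split G) {t : G} (ht : orderOf t = 2)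
    (hA : oddPart t ≠ ⊥)
    (hu : ∀ w : G, orderOf w = 2 → centralizer ({w} : Set G) = centralizer ({t} : Set G) → w = t) :
    Known G := by
  classical
  haveI : Fact (Nat.Prime 2) := ⟨Nat.prime_two⟩
  haveI : Nontrivial G := ⟨⟨t, 1, invol_ne_one ht⟩⟩
  obtain ⟨y, hy, hy1⟩ := (oddPart t).bot_or_exists_ne_one.resolve_left hA
  set C := centralizer ({t} : Set G) with hCdef
  have hnt : ∀ s : G, orderOf s = 2 → Commute s t → s ≠ t →
      ∀ a ∈ oddPart t, s * a * s = a⁻¹ := fun s hso hst hne =>
    h.inverts_oddPart ht hso hst fun e => hne (hu s hso e)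
  obtain ⟨s, hso, hst, hne⟩ : ∃ s, orderOf s = 2 ∧ Commute s t ∧ s ≠ t := by
    by_contra hno
    push Not at hno
    exact hs.false_of_unique ht hno
  have hAcomm := CfsgLib.CITGroups.commute_of_inverted (invol_sq hso) (hnt s hso hst hne)
  set K := C ⊓ centralizer ((oddPart t : Subgroup G) : Set G) with hKdef
  have hK : ∀ g, g ∈ K ↔ Commute g t ∧ ∀ a ∈ oddPart t, Commute g a := fun g => by
    rw [hKdef, mem_inf, hCdef, mem_cent, mem_centralizer_iff]
    exact and_congr_right fun _ =>
      ⟨fun hg a ha => (hg a ha).symm, fun hg a ha => (hg a ha).symm⟩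
  have htK : t ∈ K := (hK t).2 ⟨Commute.refl t, fun a ha => ((h.mem_oddPart ht).1 ha).1.symm⟩
  have hinvolK : ∀ k ∈ K, orderOf k = 2 → k = t := fun k hk hk2 =>
    hu k hk2 (h.tight_of_commute ht hk2 hy hy1 (((hK k).1 hk).2 y hy))
  have hAK : ∀ a ∈ oddPart t, a ∈ K := fun a ha =>
    (hK a).2 ⟨((h.mem_oddPart ht).1 ha).1, fun b hb => hAcomm a ha b hb⟩
  -- the elements outside `K` are involutions
  have hout : ∀ g, Commute g t → g ∉ K → orderOf g = 2 := by
    intro g hg hgK
    obtain ⟨a, x, hag, hxg, hao, ⟨k, hk⟩, he⟩ := exists_odd_two_decomp g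
    have hcomm : ∀ z ∈ zpowers g, Commute z t := fun z hz => by
      obtain ⟨i, rfl⟩ := mem_zpowers_iff.1 hz
      exact hg.zpow_left i
    have haA : a ∈ oddPart t := (h.mem_oddPart ht).2 ⟨hcomm a hag, hao⟩
    have hxK : x ∉ K := fun hx => hgK (he ▸ mul_mem (hAK a haA) hx)
    have hx1 : x ≠ 1 := fun e => hxK (e ▸ one_mem K)
    obtain ⟨e, hex, heo⟩ := exists_invol_zpowers (x := x) (by
      rw [hk, Nat.even_pow]
      exact ⟨even_two, fun e0 => hx1 (orderOf_eq_one_iff.1 (by rw [hk, e0, pow_zero]))⟩)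
    have hx2 : x * x = 1 := by
      by_contra hx2
      by_cases het : e = t
      · subst het
        exact hxK ((hK x).2 ⟨hcomm x hxg, fun b hb => h.commute_oddPart ht hk hex hb⟩)
      · exact false_of_large h hs ht hA hu (hcomm x hxg) hk hx2 heo hex het
    have hxo := orderOf_two_of hx2 hx1
    have hxt : x ≠ t := fun e => hxK (e ▸ htK)
    have hxa : Commute x a := by
      obtain ⟨i, rfl⟩ := mem_zpowers_iff.1 hag
      obtain ⟨j, rfl⟩ := mem_zpowers_iff.1 hxg
      exact (Commute.refl g).zpow_zpow j i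
    have h1 := hnt x hxo (hcomm x hxg) hxt a haA
    rw [hxa.eq, mul_assoc, hx2, mul_one] at h1
    have ha1 : a = 1 := by
      by_contra ha1
      have h2 : orderOf a = 2 := orderOf_two_of (by nth_rw 2 [h1]; exact mul_inv_cancel a) ha1
      rw [h2] at hao
      exact absurd hao (by decide)
    rw [he, ha1, one_mul]
    exact hxo
  have hsK : s ∉ K := fun h' => hne (hinvolK s h' hso)
  have hinv : ∀ k ∈ K, s * k * s⁻¹ = k⁻¹ := by
    intro k hk
    have h1 : s * k ∉ K := fun h' => hsK (by simpa using mul_mem h' (inv_mem hk))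
    have h2 := invol_sq (hout _ (hst.mul_left ((hK k).1 hk).1) h1)
    rw [invol_inv hso]
    exact eq_inv_of_mul_eq_one_left (by rw [← h2]; simp only [mul_assoc])
  have hcover : ∀ g ∈ C, g ∈ K ∨ g * s ∈ K := by
    intro g hg
    refine or_iff_not_imp_left.2 fun hgK => ?_
    have hgt : Commute g t := mem_cent.1 hg
    have hgo := hout g hgt hgK
    refine (hK _).2 ⟨hgt.mul_left hst, fun a ha => ?_⟩
    have e1 := hnt g hgo hgt (fun e => hgK (e ▸ htK)) a⁻¹ (inv_mem ha)
    have e2 := hnt s hso hst hne a ha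
    rw [inv_inv] at e1
    show g * s * a = a * (g * s)
    calc g * s * a = g * (s * a * s) * s := by simp only [mul_assoc, invol_sq hso, mul_one]
      _ = g * a⁻¹ * s := by rw [e2]
      _ = g * a⁻¹ * (g * g) * s := by rw [invol_sq hgo, mul_one]
      _ = (g * a⁻¹ * g) * (g * s) := by simp only [mul_assoc]
      _ = a * (g * s) := by rw [e1]
  have hti : ∀ g, g ∉ C → ∀ z ∈ K, g * z * g⁻¹ ∈ K → z = 1 := by
    intro g hg z hz hgz
    by_contra hz1
    refine hg (mem_cent.2 (mul_inv_eq_iff_eq_mul.1 ?_))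
    have hgo : orderOf (g * t * g⁻¹) = 2 := by rw [orderOf_conj', ht]
    obtain ⟨a, x, haz, hxz, hao, ⟨k, hk⟩, he⟩ := exists_odd_two_decomp z
    have hmemK : ∀ w ∈ zpowers z, g * w * g⁻¹ ∈ K := fun w hw =>
      zpowers_le.2 hgz (conj_mem_zpowers_conj g hw)
    by_cases ha1 : a = 1
    · rw [ha1, one_mul] at he
      obtain ⟨e, hez, heo⟩ := exists_invol_zpowers (x := z) (by
        rw [he, hk, Nat.even_pow]
        exact ⟨even_two, fun e0 => hz1 (orderOf_eq_one_iff.1 (by rw [he, hk, e0, pow_zero]))⟩)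
      have het := hinvolK e (zpowers_le.2 hz hez) heo
      subst het
      exact hinvolK _ (hmemK e hez) hgo
    · have hat : Commute a t := ((hK a).1 (zpowers_le.2 hz haz)).1
      have hga : Commute (g * a * g⁻¹) t := ((hK _).1 (hmemK a haz)).1
      have hgaA : g * a * g⁻¹ ∈ oddPart t :=
        (h.mem_oddPart ht).2 ⟨hga, by rw [orderOf_conj']; exact hao⟩
      have hga1 : g * a * g⁻¹ ≠ 1 := fun e => ha1 (conj_eq_one_iff.1 e)
      exact hu _ hgo (h.tight_of_commute ht hgo hgaA hga1 ((commute_conj_iff g t a).2 hat.symm))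
  -- a Sylow two-subgroup in `C`
  have hsyl : ∃ R : Sylow 2 G, (R : Subgroup G) ≤ C := by
    obtain ⟨Q, hQ⟩ := ((IsPGroup.of_card (n := 1) (by rw [Nat.card_zpowers, ht, pow_one]) :
      IsPGroup 2 (zpowers t)).comap_subtype : IsPGroup 2 ((zpowers t).subgroupOf C)).exists_le_sylow
    set S : Subgroup G := (Q : Subgroup C).map C.subtype with hS
    have hSC : S ≤ C := map_subtype_le _
    have htS : t ∈ S := ⟨⟨t, self_mem_cent t⟩, hQ (mem_subgroupOf.2 (mem_zpowers t)), rfl⟩
    obtain ⟨R, hR⟩ := (Q.isPGroup'.map C.subtype).exists_le_sylow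
    rw [← hS] at hR
    have hmax : ∀ g ∈ (R : Subgroup G), g ∈ C → g ∈ S := by
      intro g hgR hgC
      have := Q.is_maximal' ((R.isPGroup'.comap_subtype (K := C)))
        (fun q hq => hR ⟨q, hq, rfl⟩)
      exact ⟨⟨g, hgC⟩, this.le hgR, rfl⟩
    by_cases hRC : (R : Subgroup G) ≤ C
    · exact ⟨R, hRC⟩
    have hlt : S < (R : Subgroup G) := hR.lt_of_ne fun e => hRC (e ▸ hSC)
    obtain ⟨r, ⟨hrR, hrN⟩, hrS⟩ := SetLike.exists_of_lt
      (CfsgLib.Small.lt_inf_normalizer_of_pGroup R.isPGroup' hlt)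
    set u := r * t * r⁻¹ with hudef
    have huS : u ∈ S := (mem_normalizer_iff.1 hrN t).1 htS
    have huo : orderOf u = 2 := by rw [hudef, orderOf_conj', ht]
    have hut : u ≠ t := fun e => hrS (hmax r hrR (mem_cent.2 (mul_inv_eq_iff_eq_mul.1 e)))
    have huK : u ∉ K := fun h' => hut (hinvolK u h' huo)
    have hSK : ∀ g ∈ S, g ∈ K → g = 1 ∨ g = t := by
      intro g hgS hgK
      by_cases hg2 : g * g = 1
      · by_cases hg1 : g = 1
        · exact Or.inl hg1
        · exact Or.inr (hinvolK g hgK (orderOf_two_of hg2 hg1))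
      exfalso
      obtain ⟨j, hj⟩ := CfsgLib.CITGroups.exists_orderOf_eq_two_pow R.isPGroup' (hR hgS)
      obtain ⟨e, hez, heo⟩ := exists_invol_zpowers (x := g) (by
        rw [hj, Nat.even_pow]
        exact ⟨even_two, fun e0 => hg2 (by
          rw [orderOf_eq_one_iff.1 (show orderOf g = 1 by rw [hj, e0, pow_zero]), one_mul])⟩)
      have het := hinvolK e (zpowers_le.2 hgK hez) heo
      subst het
      have hrg : r * g * r⁻¹ ∈ S := (mem_normalizer_iff.1 hrN g).1 hgS
      have hrgK : r * g * r⁻¹ ∈ K := by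
        by_contra h'
        have h3 := invol_sq (hout _ (mem_cent.1 (hSC hrg)) h')
        rw [conj_mul, conj_eq_one_iff] at h3
        exact hg2 h3
      exact huK (zpowers_le.2 hrgK (conj_mem_zpowers_conj r hez))
    have hScases : ∀ g ∈ S, g = 1 ∨ g = t ∨ g = u ∨ g = t * u := by
      intro g hg
      by_cases hgK : g ∈ K
      · rcases hSK g hg hgK with e | e
        · exact Or.inl e
        · exact Or.inr (Or.inl e)
      · have h1 := (hcover g (hSC hg)).resolve_left hgK
        have h2 := (hcover u (hSC huS)).resolve_left huK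
        have h3 : g * u⁻¹ ∈ K := by
          rw [show g * u⁻¹ = g * s * (u * s)⁻¹ by group]
          exact mul_mem h1 (inv_mem h2)
        rcases hSK _ (mul_mem hg (inv_mem huS)) h3 with e | e
        · exact Or.inr (Or.inr (Or.inl (mul_inv_eq_one.1 e)))
        · exact Or.inr (Or.inr (Or.inr (mul_inv_eq_iff_eq_mul.1 e)))
    have hutc : Commute u t := mem_cent.1 (hSC huS)
    have htu1 : t * u ≠ 1 := fun e => hut (by rw [eq_inv_of_mul_eq_one_right e, invol_inv ht])
    set S' := S.subgroupOf (R : Subgroup G) with hS'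
    have hS4 : Nat.card S' = 4 := by
      rw [hS', Nat.card_congr (subgroupOfEquivOfLe hR).toEquiv,
        show (Nat.card S) = Nat.card (({1, t, u, t * u} : Set G)) from ?_, Nat.card_coe_set_eq,
        Set.ncard_insert_of_notMem, Set.ncard_insert_of_notMem, Set.ncard_pair]
      · exact fun e => invol_ne_one ht (right_eq_mul.1 e)
      · simp only [Set.mem_insert_iff, Set.mem_singleton_iff, not_or]
        exact ⟨Ne.symm hut, fun e => invol_ne_one huo (left_eq_mul.1 e)⟩
      · simp only [Set.mem_insert_iff, Set.mem_singleton_iff, not_or]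
        exact ⟨(invol_ne_one ht).symm, (invol_ne_one huo).symm, htu1.symm⟩
      · refine congrArg (fun X : Set G => Nat.card X) (Set.ext fun g => ⟨hScases g, ?_⟩)
        rintro (rfl | rfl | rfl | rfl)
        · exact one_mem S
        · exact htS
        · exact huS
        · exact mul_mem htS huS
    obtain ⟨b, hb⟩ := exists_cyclic_index_two R.isPGroup' S' hS4 (fun q hq => Subtype.ext (by
      simp only [SubmonoidClass.coe_pow, OneMemClass.coe_one]
      rcases hScases q (mem_subgroupOf.1 hq) with e | e | e | e <;> rw [e, sq]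
      · exact one_mul 1
      · exact invol_sq ht
      · exact invol_sq huo
      · rw [← sq, hutc.symm.mul_pow, sq, sq, invol_sq ht, invol_sq huo, one_mul]))
      fun g hg => mem_subgroupOf.2 (hmax g g.2 (mem_cent.2
        (congrArg Subtype.val (hg ⟨t, hR htS⟩ (mem_subgroupOf.2 htS)))))
    have hbrel : (zpowers (b : G)).relIndex (R : Subgroup G) = 2 := by
      rw [relIndex, show (zpowers (b : G)).subgroupOf (R : Subgroup G) = zpowers b from ?_, hb]
      rw [show zpowers (b : G) = (zpowers b).map (R : Subgroup G).subtype from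
        (MonoidHom.map_zpowers (R : Subgroup G).subtype b).symm]
      exact comap_map_eq_self_of_injective (subtype_injective _) _
    obtain ⟨g, hg⟩ := exists_conj_mem_of_not_split hns R (zpowers (b : G)) (zpowers_le.2 b.2)
      hbrel ht
    set e := g⁻¹ * t * g with he
    have heo : orderOf e = 2 := by simpa [he, ht] using orderOf_conj' g⁻¹ t
    refine ⟨g • R, ?_⟩
    rw [Sylow.coe_subgroup_smul]
    rintro _ ⟨c, hc, rfl⟩
    show g * c * g⁻¹ ∈ C
    rw [hCdef, show t = g * e * g⁻¹ by rw [he]; group, cent_conj,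
      show g⁻¹ * (g * c * g⁻¹) * g = c by group, mem_cent]
    have hnorm : (zpowers b).Normal := normal_of_index_eq_two hb
    have hcb : c * e * c⁻¹ ∈ zpowers (b : G) := by
      obtain ⟨i, hi⟩ := mem_zpowers_iff.1 hg
      obtain ⟨j, hj⟩ := mem_zpowers_iff.1 (hnorm.conj_mem _ (zpow_mem (mem_zpowers b) i) ⟨c, hc⟩)
      refine mem_zpowers_iff.2 ⟨j, ?_⟩
      have := congrArg Subtype.val hj
      simpa [hi] using this
    exact mul_inv_eq_iff_eq_mul.1
      (invol_unique (by rw [orderOf_conj', heo]) heo hcb hg)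
  exact Frame.known hs hns (t := t) (s := s) (K := K)
    ⟨ht, hso, inf_le_left, htK, mem_cent.2 hst, hsK, hinv, hcover, hinvolK, hti, hsyl⟩

end CfsgLib.IIGroups70
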