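import Cfsg.Agent.IIGroups70.Embedded
import Cfsg.Agent.IIGroups70.Frame
import Cfsg.Agent.IIGroups70.UniqueTight
import Cfsg.Agent.ZCGroup.Embedded
import Cfsg.Agent.Small.BaerSuzuki
import Cfsg.Agent.Inv53.Constrained

/-!
# All involution centralisers are 2-groups

Either the Sylow 2-subgroups intersect trivially, and the normaliser of one is strongly embedded, or
a maximal intersection is a self-centralising four group and the centraliser of its central
involution is a dihedral Sylow subgroup.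
-/

set_option autoImplicit false
set_option linter.unusedSectionVars false
set_option linter.style.haveILetI false

namespace CfsgLib.IIGroups70

open Subgroup CfsgLib.SEmbed

variable {G : Type*} [Group G] [Finite G]

theorem known_of_trivial_intersection (h : II G) (hs : SS G)
    (hcit : CfsgLib.CITGroups.IsCIT G) {t : G} (ht : orderOf t = 2)
    (hTI : ∀ P Q : Sylow 2 G, P ≠ Q → (P : Subgroup G) ⊓ Q = ⊥) : Known G := by
  classical
  haveI : Fact (Nat.Prime 2) := ⟨Nat.prime_two⟩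
  obtain ⟨S, htS⟩ := (IsPGroup.of_card (n := 1) (by rw [Nat.card_zpowers, ht, pow_one]) :
    IsPGroup 2 (zpowers t)).exists_le_sylow
  rw [zpowers_le] at htS
  have hSne : (S : Subgroup G) ≠ ⊥ := fun e => invol_ne_one ht (mem_bot.1 (e ▸ htS))
  have hCS : ∀ u ∈ (S : Subgroup G), orderOf u = 2 →
      centralizer ({u} : Set G) ≤ (S : Subgroup G) := by
    intro u huS hu
    obtain ⟨P, hP⟩ := (hcit u hu).exists_le_sylow
    have hPS : P = S := by
      by_contra hne
      have := hTI P S hne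
      exact invol_ne_one hu (mem_bot.1 (this ▸ mem_inf.2 ⟨hP (self_mem_cent u), huS⟩))
    rwa [hPS] at hP
  set H := normalizer ((S : Subgroup G) : Set G) with hH
  have hHtop : H ≠ ⊤ := fun e => by
    have hn : (S : Subgroup G).Normal := normalizer_eq_top_iff.1 e
    have hsol : Group.IsSolvable (S : Subgroup G) := by
      haveI := S.isPGroup'.isNilpotent
      infer_instance
    exact hSne (hs _ hn hsol)
  have hSE : Cfsg.IsStronglyEmbedded H :=
    CfsgLib.ZCGroup.isStronglyEmbedded_of_centralizer hHtop S hSne le_normalizer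
      (fun u hu huo => (hCS u hu huo).trans le_normalizer) le_rfl
  obtain ⟨z, hzS, hz, hzc⟩ := CfsgLib.Inv53.exists_orderOf_eq_central S.isPGroup' hSne
  have hCz : centralizer ({z} : Set G) = (S : Subgroup G) :=
    le_antisymm (hCS z hzS hz) fun c hc => mem_centralizer_singleton_iff.2 (hzc c hc)
  refine known_of_embedded h hs hSE hz (le_normalizer hzS) fun u huH hu => ?_
  haveI := nontrivial_cosets hSE
  obtain ⟨y, hy⟩ := exists_ne ((1 : G) : G ⧸ H)
  obtain ⟨d, hd, rfl⟩ := exists_conj_fix (uniqueFix hSE) hy.symm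
    ⟨hz, (smul_one_eq_iff H z).2 (le_normalizer hzS)⟩ ⟨hu, (smul_one_eq_iff H u).2 huH⟩
  have hdH : d ∈ H := (smul_one_eq_iff H d).1 (mem_pairStab.1 hd).1
  ext c
  rw [cent_conj, hCz]
  exact (mem_normalizer_iff''.1 hdH c).symm

/-- An element of a cyclic group of order four with nontrivial square is a generator or its
inverse. -/
theorem zpowers_four_cases {q z : G} (hq : q * q * (q * q) = 1) (hz : z ∈ zpowers q)
    (hz2 : z * z ≠ 1) : z = q ∨ z = q⁻¹ := by
  obtain ⟨i, rfl⟩ := mem_zpowers_iff.1 hz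
  have h4 : ∀ n : ℤ, q ^ (4 * n) = 1 := fun n => by
    rw [zpow_mul, show q ^ (4 : ℤ) = 1 by rw [show (4 : ℤ) = 2 + 2 by norm_num, zpow_add, zpow_two,
      hq], one_zpow]
  have hred : q ^ i = q ^ (i % 4) := by
    conv_lhs => rw [← Int.emod_add_mul_ediv i 4, zpow_add, h4, mul_one]
  rcases show i % 4 = 0 ∨ i % 4 = 1 ∨ i % 4 = 2 ∨ i % 4 = 3 by omega with e | e | e | e <;>
    rw [hred, e] at hz2 ⊢
  · simp at hz2
  · exact Or.inl (zpow_one q)
  · rw [zpow_two] at hz2; exact absurd hq hz2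
  · refine Or.inr ?_
    rw [show (3 : ℤ) = 4 * 1 + -1 by norm_num, zpow_add, h4, one_mul, zpow_neg_one]

/-- A maximal intersection of two Sylow 2-subgroups is a self-centralising four group with an
element outside normalising it. -/
theorem exists_four_of_intersection (h : II G) (hcit : CfsgLib.CITGroups.IsCIT G)
    (hne : ∃ P Q : Sylow 2 G, P ≠ Q ∧ (P : Subgroup G) ⊓ Q ≠ ⊥) :
    ∃ (S : Sylow 2 G) (R : Subgroup G), R ≤ (S : Subgroup G) ∧ Nat.card R = 4 ∧
      (∀ a ∈ R, a * a = 1) ∧ centralizer (R : Set G) ≤ R ∧ R ≠ (S : Subgroup G) := by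
  classical
  haveI : Fact (Nat.Prime 2) := ⟨Nat.prime_two⟩
  let s : Set (Subgroup G) :=
    {X | X ≠ ⊥ ∧ ∃ P Q : Sylow 2 G, P ≠ Q ∧ (P : Subgroup G) ⊓ Q = X}
  obtain ⟨P₀, Q₀, hne₀, hbot₀⟩ := hne
  obtain ⟨R, ⟨hR1, S₁, S₂, hS, hSR⟩, hmax⟩ :=
    s.toFinite.exists_maximal ⟨_, hbot₀, P₀, Q₀, hne₀, rfl⟩
  have hR₁ : R ≤ (S₁ : Subgroup G) := hSR ▸ inf_le_left
  have hR₂ : R ≤ (S₂ : Subgroup G) := hSR ▸ inf_le_right
  have hR₁' : R < (S₁ : Subgroup G) := hR₁.lt_of_ne fun e => hS (Sylow.ext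
    (S₁.is_maximal' S₂.isPGroup' (e ▸ hR₂)).symm)
  have hR₂' : R < (S₂ : Subgroup G) := hR₂.lt_of_ne fun e => hS (Sylow.ext
    (S₂.is_maximal' S₁.isPGroup' (e ▸ hR₁)))
  set U := normalizer (R : Set G) with hU
  -- normal 2-subgroups of `U` lie in `R`
  have hcore : ∀ N : Subgroup G, U ≤ normalizer (N : Set G) → IsPGroup 2 N → N ≤ R := by
    intro N hN hN2
    have key : ∀ T : Sylow 2 G, R < (T : Subgroup G) → (∀ P : Sylow 2 G, P ≠ T →
        R ≤ (P : Subgroup G) ⊓ T → (P : Subgroup G) ⊓ T ≤ R) → N ≤ (T : Subgroup G) := by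
      intro T hT hT'
      have hlt := CfsgLib.Small.lt_inf_normalizer_of_pGroup T.isPGroup' hT
      obtain ⟨P, hP⟩ := (hN2.to_sup_of_normal_left'
        (T.isPGroup'.to_le (inf_le_left : (T : Subgroup G) ⊓ U ≤ T))
        (inf_le_right.trans hN)).exists_le_sylow
      by_cases e : P = T
      · exact e ▸ le_sup_left.trans hP
      · exfalso
        have hle : (T : Subgroup G) ⊓ U ≤ (P : Subgroup G) ⊓ T :=
          le_inf (le_sup_right.trans hP) inf_le_left
        exact absurd (hle.trans (hT' P e (hlt.le.trans hle))) (not_le_of_gt hlt)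
    have hgen : ∀ P T : Sylow 2 G, P ≠ T → R ≤ (P : Subgroup G) ⊓ T →
        (P : Subgroup G) ⊓ T ≤ R := fun P T e hle =>
      hmax (show (P : Subgroup G) ⊓ T ∈ s from
        ⟨fun e' => hR1 (le_bot_iff.1 (e' ▸ hle)), P, T, e, rfl⟩) hle
    rw [← hSR]
    exact le_inf (key S₁ hR₁' fun P => hgen P S₁) (key S₂ hR₂' fun P => hgen P S₂)
  have hRp : IsPGroup 2 R := S₁.isPGroup'.to_le hR₁
  -- an element outside `R` with square in `R`
  obtain ⟨g₀, hg₀, hg₀R⟩ := SetLike.exists_of_lt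
    (CfsgLib.Small.lt_inf_normalizer_of_pGroup S₁.isPGroup' hR₁')
  obtain ⟨g, hgS, hgU, hgR, hggR⟩ : ∃ g, g ∈ (S₁ : Subgroup G) ∧ g ∈ U ∧ g ∉ R ∧ g * g ∈ R := by
    obtain ⟨k, hk⟩ := CfsgLib.CITGroups.exists_orderOf_eq_two_pow S₁.isPGroup' hg₀.1
    have hex : ∃ n, g₀ ^ 2 ^ n ∈ R := ⟨k, by rw [← hk, pow_orderOf_eq_one]; exact one_mem R⟩
    have hpos : Nat.find hex ≠ 0 := fun e => hg₀R (by
      have := Nat.find_spec hex
      rwa [e, pow_zero, pow_one] at this)
    obtain ⟨n, hn⟩ := Nat.exists_eq_succ_of_ne_zero hpos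
    refine ⟨g₀ ^ 2 ^ n, pow_mem hg₀.1 _, pow_mem hg₀.2 _,
      Nat.find_min hex (by omega), ?_⟩
    rw [← pow_add, ← two_mul, ← pow_succ']
    have := Nat.find_spec hex
    rwa [hn] at this
  have hRU : R ≤ U := le_normalizer
  -- a conjugate with which it does not generate a 2-group
  obtain ⟨e₁, he₁U, hnot⟩ : ∃ e ∈ U,
      ¬ IsPGroup 2 (closure ({g, e * g * e⁻¹} : Set G)) := by
    by_contra hall
    push Not at hall
    obtain ⟨N, hN, hN2, hgN⟩ := CfsgLib.Small.baerSuzuki_elem (p := 2) (⟨g, hgU⟩ : U) fun e => by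
      refine IsPGroup.of_injective (IsPGroup.to_le ((hall e e.2).comap_subtype (K := U)) ?_)
        (MonoidHom.id _) Function.injective_id
      rw [closure_le]
      rintro w (rfl | rfl)
      · exact subset_closure (by simp)
      · exact subset_closure (by simp)
    refine hgR (hcore (N.map U.subtype) (fun a ha => mem_normalizer_iff.2 fun b => ?_)
      (hN2.map _) ⟨_, hgN, rfl⟩)
    constructor
    · rintro ⟨c, hc, rfl⟩
      exact ⟨⟨a, ha⟩ * c * ⟨a, ha⟩⁻¹, hN.conj_mem c hc ⟨a, ha⟩, rfl⟩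
    · rintro ⟨c, hc, hc'⟩
      refine ⟨⟨a, ha⟩⁻¹ * c * ⟨a, ha⟩, ?_, ?_⟩
      · simpa using hN.conj_mem c hc ⟨a, ha⟩⁻¹
      · have hc'' : (c : G) = a * b * a⁻¹ := hc'
        show a⁻¹ * (c : G) * a = b
        rw [hc'']; group
  -- the central involutions of `R`
  obtain ⟨w₀, hw₀R, hw₀, hw₀c⟩ := CfsgLib.Inv53.exists_orderOf_eq_central hRp hR1
  have hWconj : ∀ a ∈ U, ∀ w ∈ R, (∀ r ∈ R, r * w = w * r) →
      a * w * a⁻¹ ∈ R ∧ ∀ r ∈ R, r * (a * w * a⁻¹) = a * w * a⁻¹ * r := by
    intro a ha w hw hwc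
    refine ⟨(mem_normalizer_iff.1 ha w).1 hw, fun r hr => ?_⟩
    have h1 := hwc _ ((mem_normalizer_iff''.1 ha r).1 hr)
    calc r * (a * w * a⁻¹) = a * (a⁻¹ * r * a * w) * a⁻¹ := by group
      _ = a * (w * (a⁻¹ * r * a)) * a⁻¹ := by rw [h1]
      _ = a * w * a⁻¹ * r := by group
  obtain ⟨w, hwR, hww, hwc, hgw⟩ : ∃ w ∈ R, w * w = 1 ∧ (∀ r ∈ R, r * w = w * r) ∧
      ¬ Commute g w := by
    by_contra hno
    push Not at hno
    refine hnot ((hcit w₀ hw₀).to_le (by
      rw [closure_le]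
      rintro v (rfl | rfl)
      · exact mem_cent.2 (hno w₀ hw₀R (invol_sq hw₀) hw₀c)
      · rw [SetLike.mem_coe, mem_cent]
        obtain ⟨hm, hc⟩ := hWconj e₁⁻¹ (inv_mem he₁U) w₀ hw₀R hw₀c
        rw [inv_inv] at hm hc
        have := (commute_conj_iff e₁ g _).2 (hno _ hm (by
          rw [show e₁⁻¹ * w₀ * e₁ * (e₁⁻¹ * w₀ * e₁) = e₁⁻¹ * (w₀ * w₀) * e₁ by group,
            invol_sq hw₀]; group) hc)
        simpa [mul_assoc] using this))
  -- an element of order at least four in `gR` with central involution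
  obtain ⟨x, u, hxg, hxx, hx2, hu, hux, huR, huc⟩ : ∃ x u : G, g⁻¹ * x ∈ R ∧ x * x ∈ R ∧
      x * x ≠ 1 ∧ orderOf u = 2 ∧ u ∈ zpowers x ∧ u ∈ R ∧ ∀ r ∈ R, r * u = u * r := by
    by_cases hg2 : g * g = 1
    · obtain ⟨hm, hc⟩ := hWconj g hgU w hwR hwc
      have hgi : g⁻¹ = g := inv_eq_of_mul_eq_one_right hg2
      have hx : g * w * (g * w) = g * w * g⁻¹ * w := by rw [hgi]; simp only [mul_assoc]
      have hne : g * w * g⁻¹ * w ≠ 1 := fun e => hgw (by
        rw [mul_eq_one_iff_eq_inv, inv_eq_of_mul_eq_one_right hww, mul_inv_eq_iff_eq_mul] at e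
        exact e)
      have ho : orderOf (g * w * g⁻¹ * w) = 2 := orderOf_two_of (by
        have hcw : Commute (g * w * g⁻¹) w := hwc _ hm
        rw [← sq, hcw.mul_pow, sq, sq, conj_mul, hww]
        simp) hne
      refine ⟨g * w, g * w * g⁻¹ * w, by simpa using hwR, hx ▸ mul_mem hm hwR, hx ▸ hne, ho,
        hx ▸ mul_mem (mem_zpowers _) (mem_zpowers _), mul_mem hm hwR, fun r hr => ?_⟩
      exact ((show Commute r (g * w * g⁻¹) from hc r hr).mul_right (hwc r hr)).eq
    · obtain ⟨k, hk⟩ := CfsgLib.CITGroups.exists_orderOf_eq_two_pow S₁.isPGroup' hgS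
      obtain ⟨u, hu', hu⟩ := exists_invol_zpowers (x := g * g) (by
        obtain ⟨j, hj⟩ := CfsgLib.CITGroups.exists_orderOf_eq_two_pow S₁.isPGroup'
          (mul_mem hgS hgS)
        rw [hj, Nat.even_pow]
        exact ⟨even_two, fun e0 => hg2 (orderOf_eq_one_iff.1 (by rw [hj, e0, pow_zero]))⟩)
      have huR : u ∈ R := zpowers_le.2 hggR hu'
      have hug : u ∈ zpowers g := zpowers_le.2 (mul_mem (mem_zpowers g) (mem_zpowers g)) hu'
      have h1 := h.conj_mem hu hug (show Commute w u from (hwc u huR).symm)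
      obtain ⟨hm, hc⟩ := hWconj g hgU w hwR hwc
      have hwi : w⁻¹ = w := inv_eq_of_mul_eq_one_right hww
      have hz : w * (g * w * g⁻¹) ∈ zpowers g := by
        rw [show w * (g * w * g⁻¹) = (w * g * w⁻¹) * g⁻¹ by rw [hwi]; simp only [mul_assoc]]
        exact mul_mem h1 (inv_mem (mem_zpowers g))
      have hne : w * (g * w * g⁻¹) ≠ 1 := fun e => hgw (by
        rw [mul_eq_one_iff_inv_eq, hwi, eq_comm, mul_inv_eq_iff_eq_mul] at e
        exact e)
      have hzo : orderOf (w * (g * w * g⁻¹)) = 2 := orderOf_two_of (by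
        have hcw : Commute w (g * w * g⁻¹) := (hwc _ hm).symm
        rw [← sq, hcw.mul_pow, sq, sq, conj_mul, hww, mul_one, mul_inv_cancel, one_mul]) hne
      have hue := invol_unique hu hzo hug hz
      refine ⟨g, u, by simp, hggR, hg2, hu, hug, huR, fun r hr => ?_⟩
      rw [hue]
      exact ((show Commute r w from hwc r hr).mul_right (hc r hr)).eq
  have hxU : x ∈ U := by
    have := mul_mem hgU (hRU hxg)
    rwa [mul_inv_cancel_left] at this
  have hxR : x ∉ R := fun hm => hgR (by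
    have := mul_mem hm (inv_mem hxg)
    rwa [mul_inv_rev, inv_inv, mul_inv_cancel_left] at this)
  set y := e₁ * x * e₁⁻¹ with hy
  -- nothing in `R` commutes with `x` and `y`
  have hF : ∀ a ∈ R, Commute a x → Commute a y → a = 1 := by
    intro a ha hax hay
    by_contra ha1
    obtain ⟨j, hj⟩ := CfsgLib.CITGroups.exists_orderOf_eq_two_pow hRp ha
    have hp : IsPGroup 2 (closure ({x, y} : Set G)) :=
      CfsgLib.CITGroups.isPGroup_two_of_forall fun d hd ho => by
        have hle : closure ({x, y} : Set G) ≤ centralizer ({a} : Set G) := by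
          rw [closure_le]
          rintro v (rfl | rfl)
          · exact mem_cent.2 hax.symm
          · exact mem_cent.2 hay.symm
        exact hcit.eq_one_of_commute hj ha1 ho (mem_cent.1 (hle hd))
    have hyU : y ∈ U := mul_mem (mul_mem he₁U hxU) (inv_mem he₁U)
    refine hnot ((hp.to_sup_of_normal_right' hRp (by
      rw [closure_le]
      rintro v (rfl | rfl)
      · exact hxU
      · exact hyU)).to_le ?_)
    rw [closure_le]
    have hx' : x ∈ closure ({x, y} : Set G) := subset_closure (by simp)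
    have hy' : y ∈ closure ({x, y} : Set G) := subset_closure (by simp)
    rintro v (rfl | rfl)
    · rw [SetLike.mem_coe, show v = x * (v⁻¹ * x)⁻¹ by group]
      exact mul_mem (mem_sup_left hx') (mem_sup_right (inv_mem hxg))
    · rw [SetLike.mem_coe, show e₁ * g * e₁⁻¹ = y * (e₁ * (g⁻¹ * x) * e₁⁻¹)⁻¹ by rw [hy]; group]
      exact mul_mem (mem_sup_left hy')
        (mem_sup_right (inv_mem ((mem_normalizer_iff.1 he₁U _).1 hxg)))
  set r := x * x with hr
  set r' := e₁ * r * e₁⁻¹ with hr'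
  have hr'y : r' = y * y := by rw [hr', hr, hy, conj_mul]
  have hr'R : r' ∈ R := (mem_normalizer_iff.1 he₁U r).1 hxx
  have hxmem : ∀ z ∈ R, z ∈ zpowers x → z ∈ zpowers r := by
    intro z hz hzx
    obtain ⟨i, rfl⟩ := mem_zpowers_iff.1 hzx
    rcases Int.even_or_odd i with ⟨j, hj⟩ | ⟨j, hj⟩
    · refine mem_zpowers_iff.2 ⟨j, ?_⟩
      rw [hr, ← zpow_two, ← zpow_mul, hj, two_mul]
    · exfalso
      refine hxR ?_
      rw [show x = (r ^ j)⁻¹ * x ^ i by
        rw [hr, ← zpow_two, ← zpow_mul, hj, zpow_add, zpow_one, inv_mul_cancel_left]]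
      exact mul_mem (inv_mem (zpow_mem hxx j)) hz
  have hφ : ∀ a ∈ R, a * x * a⁻¹ * x⁻¹ ∈ zpowers r := by
    intro a ha
    refine hxmem _ ?_ (mul_mem (h.conj_mem hu hux (huc a ha)) (inv_mem (mem_zpowers x)))
    rw [show a * x * a⁻¹ * x⁻¹ = a * (x * a⁻¹ * x⁻¹) by group]
    exact mul_mem ha ((mem_normalizer_iff.1 hxU _).1 (inv_mem ha))
  have hψ : ∀ a ∈ R, a * y * a⁻¹ * y⁻¹ ∈ zpowers r' := by
    intro a ha
    have ha' := (mem_normalizer_iff''.1 he₁U a).1 ha
    have := conj_mem_zpowers_conj e₁ (hφ _ ha')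
    rw [← hr'] at this
    convert this using 1
    rw [hy]; group
  have hcommx : ∀ z ∈ zpowers r, Commute z x := fun z hz => by
    obtain ⟨i, rfl⟩ := mem_zpowers_iff.1 hz
    exact ((Commute.refl x).mul_left (Commute.refl x)).zpow_left i
  have hcommy : ∀ z ∈ zpowers r', Commute z y := fun z hz => by
    obtain ⟨i, rfl⟩ := mem_zpowers_iff.1 hz
    rw [hr'y]
    exact ((Commute.refl y).mul_left (Commute.refl y)).zpow_left i
  have hinter : ∀ z ∈ zpowers r, z ∈ zpowers r' → z = 1 := fun z hz hz' =>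
    hF z (zpowers_le.2 hxx hz) (hcommx z hz) (hcommy z hz')
  have hinj : Function.Injective (fun a : R =>
      ((⟨_, hφ a a.2⟩ : zpowers r), (⟨_, hψ a a.2⟩ : zpowers r'))) := by
    intro a b hab
    have e1 := congrArg (fun p : zpowers r × zpowers r' => ((p.1 : zpowers r) : G)) hab
    have e2 := congrArg (fun p : zpowers r × zpowers r' => ((p.2 : zpowers r') : G)) hab
    have key : ∀ c : G, (a : G) * c * (a : G)⁻¹ * c⁻¹ = b * c * (b : G)⁻¹ * c⁻¹ →
        Commute ((b : G)⁻¹ * a) c := fun c e => by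
      have e' : (a : G) * c * (a : G)⁻¹ = b * c * (b : G)⁻¹ := mul_right_cancel e
      calc (b : G)⁻¹ * a * c = (b : G)⁻¹ * (a * c * (a : G)⁻¹) * a := by group
        _ = c * ((b : G)⁻¹ * a) := by rw [e']; group
    exact (Subtype.ext (inv_mul_eq_one.1
      (hF _ (mul_mem (inv_mem b.2) a.2) (key x e1) (key y e2))).symm)
  have hinj2 : Function.Injective (fun p : zpowers r × zpowers r' =>
      (⟨(p.1 : G) * p.2, mul_mem (zpowers_le.2 hxx p.1.2) (zpowers_le.2 hr'R p.2.2)⟩ : R)) := by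
    rintro ⟨a, b⟩ ⟨c, d⟩ hab
    have e : (a : G) * b = c * d := congrArg Subtype.val hab
    have h1 : (c : G)⁻¹ * a = d * (b : G)⁻¹ := by
      rw [eq_mul_inv_iff_mul_eq, mul_assoc, e, inv_mul_cancel_left]
    have h2 := hinter _ (mul_mem (inv_mem c.2) a.2) (h1 ▸ mul_mem d.2 (inv_mem b.2))
    have h3 : a = c := Subtype.ext (inv_mul_eq_one.1 h2).symm
    subst h3
    exact Prod.ext rfl (Subtype.ext (mul_left_cancel e))
  have hbij := (Nat.bijective_iff_injective_and_card _).2 ⟨hinj,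
    le_antisymm (Nat.card_le_card_of_injective _ hinj) (Nat.card_le_card_of_injective _ hinj2)⟩
  obtain ⟨⟨a, ha⟩, hae⟩ := hbij.2 (⟨r, mem_zpowers r⟩, ⟨1, one_mem _⟩)
  have ha1 : a * x * a⁻¹ * x⁻¹ = r :=
    congrArg (fun p : zpowers r × zpowers r' => ((p.1 : zpowers r) : G)) hae
  have ha2 : a * y * a⁻¹ * y⁻¹ = 1 :=
    congrArg (fun p : zpowers r × zpowers r' => ((p.2 : zpowers r') : G)) hae
  have hay : Commute a y := mul_inv_eq_iff_eq_mul.1 (mul_inv_eq_one.1 ha2)
  obtain ⟨⟨⟨c, hc⟩, ⟨d, hd⟩⟩, hcd⟩ := (((Nat.bijective_iff_injective_and_card _).2 ⟨hinj2,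
    le_antisymm (Nat.card_le_card_of_injective _ hinj2)
      (Nat.card_le_card_of_injective _ hinj)⟩)).2 ⟨a, ha⟩
  have hcd' : c * d = a := congrArg Subtype.val hcd
  have hc1 : c = 1 := hinter c hc (by
    have hcy : Commute c y := by
      rw [show c = a * d⁻¹ by rw [← hcd']; group]
      exact hay.mul_left (hcommy d hd).inv_left
    rw [hF c (zpowers_le.2 hxx hc) (hcommx c hc) hcy]
    exact one_mem _)
  rw [hc1, one_mul] at hcd'
  have hda : a ∈ zpowers r' := hcd' ▸ hd
  have hrr' : Commute r r' := by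
    have e1 := hφ r' hr'R
    have e2 : r' * r * r'⁻¹ ∈ zpowers r := by
      refine hxmem _ (mul_mem (mul_mem hr'R hxx) (inv_mem hr'R)) ?_
      rw [hr, show r' * (x * x) * r'⁻¹ = r' * x * r'⁻¹ * (r' * x * r'⁻¹) by group]
      exact mul_mem (h.conj_mem hu hux (huc r' hr'R)) (h.conj_mem hu hux (huc r' hr'R))
    have e3 : r * r' * r⁻¹ * r'⁻¹ ∈ zpowers r' := by
      refine mul_mem ?_ (inv_mem (mem_zpowers r'))
      have ha' := (mem_normalizer_iff''.1 he₁U r).1 hxx
      have e4 : e₁⁻¹ * r * e₁ * r * (e₁⁻¹ * r * e₁)⁻¹ ∈ zpowers r := by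
        refine hxmem _ (mul_mem (mul_mem ha' hxx) (inv_mem ha')) ?_
        rw [hr, ← conj_mul]
        exact mul_mem (h.conj_mem hu hux (huc _ ha')) (h.conj_mem hu hux (huc _ ha'))
      have := conj_mem_zpowers_conj e₁ e4
      rw [← hr'] at this
      convert this using 1
      rw [hr']; group
    have e5 : r * r' * r⁻¹ * r'⁻¹ ∈ zpowers r := by
      rw [show r * r' * r⁻¹ * r'⁻¹ = r * (r' * r * r'⁻¹)⁻¹ by group]
      exact mul_mem (mem_zpowers r) (inv_mem e2)
    exact mul_inv_eq_iff_eq_mul.1 (mul_inv_eq_one.1 (hinter _ e5 e3))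
  have hr2 : r * r = 1 := by
    obtain ⟨i, hi⟩ := mem_zpowers_iff.1 hda
    have hra : Commute r a := hi ▸ hrr'.zpow_right i
    have hxr : Commute x r := (Commute.refl x).mul_right (Commute.refl x)
    have h1 : x * a * x⁻¹ = r⁻¹ * a := by
      rw [← ha1]; group
    have h2 : x * (x * a * x⁻¹) * x⁻¹ = a := by
      rw [show x * (x * a * x⁻¹) * x⁻¹ = x * x * a * (x * x)⁻¹ by group, ← hr, hra.eq,
        mul_inv_cancel_right]
    rw [h1, show x * (r⁻¹ * a) * x⁻¹ = (x * r⁻¹ * x⁻¹) * (x * a * x⁻¹) by group, h1,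
      hxr.inv_right.eq, mul_inv_cancel_right, ← mul_assoc, mul_eq_right, ← mul_inv_rev,
      inv_eq_one] at h2
    exact h2
  have hro : orderOf r = 2 := orderOf_two_of hr2 hx2
  have hr'o : orderOf r' = 2 := by rw [hr', orderOf_conj', hro]
  have hcard : Nat.card R = 4 := by
    rw [Nat.card_eq_of_bijective _ hbij, Nat.card_prod, Nat.card_zpowers, Nat.card_zpowers, hro,
      hr'o]
  have hgenR : ∀ a ∈ R, ∃ c ∈ zpowers r, ∃ d ∈ zpowers r', c * d = a := fun a ha => by
    obtain ⟨⟨c, d⟩, e⟩ := (((Nat.bijective_iff_injective_and_card _).2 ⟨hinj2,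
      le_antisymm (Nat.card_le_card_of_injective _ hinj2)
        (Nat.card_le_card_of_injective _ hinj)⟩)).2 ⟨a, ha⟩
    exact ⟨c, c.2, d, d.2, congrArg Subtype.val e⟩
  refine ⟨S₁, R, hR₁, hcard, fun a ha => ?_, ?_, hR₁'.ne⟩
  · obtain ⟨c, hc, d, hd, rfl⟩ := hgenR a ha
    have hcd2 : Commute c d := by
      obtain ⟨i, rfl⟩ := mem_zpowers_iff.1 hc
      obtain ⟨j, rfl⟩ := mem_zpowers_iff.1 hd
      exact hrr'.zpow_zpow i j
    have h1 : c * c = 1 := by
      rcases mem_zpowers_invol hro hc with rfl | rfl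
      · exact one_mul 1
      · exact hr2
    have h2 : d * d = 1 := by
      rcases mem_zpowers_invol hr'o hd with rfl | rfl
      · exact one_mul 1
      · exact invol_sq hr'o
    rw [← sq, hcd2.mul_pow, sq, sq, h1, h2, one_mul]
  · refine hcore _ (fun a ha => mem_normalizer_iff.2 fun b => ?_)
      ((hcit w₀ hw₀).to_le fun b hb => mem_cent.2 (mem_centralizer_iff.1 hb w₀ hw₀R).symm)
    rw [mem_centralizer_iff, mem_centralizer_iff]
    constructor
    · intro hb c hc
      have := hb _ ((mem_normalizer_iff''.1 ha c).1 hc)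
      calc c * (a * b * a⁻¹) = a * (a⁻¹ * c * a * b) * a⁻¹ := by group
        _ = a * b * a⁻¹ * c := by rw [this]; group
    · intro hb c hc
      have := hb _ ((mem_normalizer_iff.1 ha c).1 hc)
      calc c * b = a⁻¹ * (a * c * a⁻¹ * (a * b * a⁻¹)) * a := by group
        _ = b * c := by rw [this]; group

theorem known_of_four (h : II G) (hs : SS G) (hns : ¬ Split G)
    (hcit : CfsgLib.CITGroups.IsCIT G) {S : Sylow 2 G} {R : Subgroup G}
    (hRS : R ≤ (S : Subgroup G)) (hR4 : Nat.card R = 4) (hR2 : ∀ a ∈ R, a * a = 1)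
    (hRc : centralizer (R : Set G) ≤ R) (hne : R ≠ (S : Subgroup G)) : Known G := by
  classical
  haveI : Fact (Nat.Prime 2) := ⟨Nat.prime_two⟩
  set Q := R.subgroupOf (S : Subgroup G) with hQ
  have hQ4 : Nat.card Q = 4 := by
    rw [hQ, Nat.card_congr (subgroupOfEquivOfLe hRS).toEquiv, hR4]
  have hQ2 : ∀ q ∈ Q, q ^ 2 = 1 := fun q hq => Subtype.ext (by
    rw [SubmonoidClass.coe_pow, sq, OneMemClass.coe_one]; exact hR2 _ (mem_subgroupOf.1 hq))
  have hQc : ∀ g : (S : Subgroup G), (∀ q ∈ Q, g * q = q * g) → g ∈ Q := fun g hg =>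
    mem_subgroupOf.2 (hRc (mem_centralizer_iff.2 fun v hv =>
      (congrArg Subtype.val (hg ⟨v, hRS hv⟩ (mem_subgroupOf.2 hv))).symm))
  have hQtop : Q ≠ ⊤ := fun e => hne (le_antisymm hRS (subgroupOf_eq_top.1 e))
  -- a cyclic subgroup of index two outside which all elements are involutions
  obtain ⟨b, e, hb, he, hoe, hbout⟩ : ∃ (b e : (S : Subgroup G)), (zpowers b).index = 2 ∧
      e ∈ zpowers b ∧ orderOf e = 2 ∧ ∀ g, g ∉ zpowers b → g * g = 1 := by
    have hlt : 4 < Nat.card (S : Subgroup G) := by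
      rw [← hQ4]
      exact lt_of_le_of_ne (card_le_card_group Q) fun e => hQtop (eq_top_of_card_eq Q e)
    rcases CfsgLib.FusionMetacyclic.of_klein_self_centralizing S.isPGroup' Q hQ4 hQ2 hQc hQtop with
      ⟨n, ⟨f⟩⟩ | ⟨n, hn, hc, x, y, hx, hy, hyx⟩
    · have hcard' : Nat.card (S : Subgroup G) = 2 * n := by
        rw [Nat.card_congr f.toEquiv, DihedralGroup.nat_card]
      haveI : NeZero n := ⟨by omega⟩
      set b := f.symm (DihedralGroup.r 1) with hbdef
      have hbo : orderOf b = n := by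
        rw [hbdef, MulEquiv.orderOf_eq, DihedralGroup.orderOf_r_one]
      have hidx : (zpowers b).index = 2 := by
        have h := (zpowers b).card_mul_index
        rw [Nat.card_zpowers, hbo, hcard'] at h
        exact Nat.eq_of_mul_eq_mul_left (by omega) (h.trans (mul_comm _ _))
      obtain ⟨j, hj⟩ := IsPGroup.iff_orderOf.1 S.isPGroup' b
      obtain ⟨e, he, hoe⟩ := exists_invol_zpowers (x := b) (by
        rw [hj, Nat.even_pow]
        exact ⟨even_two, fun e0 => by rw [hbo, e0, pow_zero] at hj; omega⟩)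
      refine ⟨b, e, hidx, he, hoe, fun g hg => f.injective ?_⟩
      rw [map_mul, map_one]
      cases hfg : f g with
      | r i =>
        refine absurd (mem_zpowers_iff.2 ⟨(i.cast : ℤ), f.injective ?_⟩) hg
        rw [hbdef, map_zpow, f.apply_symm_apply, DihedralGroup.r_one_zpow, ZMod.intCast_zmod_cast,
          hfg]
      | sr i => exact DihedralGroup.sr_mul_self i
    · exfalso
      set hh := 2 ^ (n - 1) with hhdef
      have hh4 : 4 ≤ hh := by
        calc 4 = 2 ^ 2 := by norm_num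
          _ ≤ hh := Nat.pow_le_pow_right two_pos (by omega)
      have hhn : 2 ^ n = hh * 2 := by rw [hhdef, ← pow_succ]; congr 1; omega
      have hy2 : y * y = 1 := invol_sq hy
      have hyi : y⁻¹ = y := invol_inv hy
      rw [hyi] at hyx
      set q := y * x with hq
      have hq2 : q * q = x ^ hh := by
        rw [hq, show y * x * (y * x) = y * x * y * x by group, hyx, ← pow_succ]
        congr 1; omega
      have hxh : orderOf (x ^ hh) = 2 := by
        rw [orderOf_pow, hx, hhn, Nat.gcd_eq_right (dvd_mul_right _ _),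
          Nat.mul_div_cancel_left _ (by omega)]
      have hcent : ∀ g : (S : Subgroup G), Commute g (x ^ hh) := by
        intro g
        have hn2 : (zpowers x).Normal := normal_of_index_eq_two (by
          have h := (zpowers x).card_mul_index
          rw [Nat.card_zpowers, hx, hc, pow_succ] at h
          exact Nat.eq_of_mul_eq_mul_left (by positivity) h)
        exact mul_inv_eq_iff_eq_mul.1 (invol_unique (by rw [orderOf_conj', hxh]) hxh
          (hn2.conj_mem _ (pow_mem (mem_zpowers x) _) g) (pow_mem (mem_zpowers x) _))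
      have hqG : orderOf ((x ^ hh : (S : Subgroup G)) : G) = 2 := by
        rw [Subgroup.orderOf_coe, hxh]
      have hmem : ((x ^ hh : (S : Subgroup G)) : G) ∈ zpowers (q : G) :=
        hq2 ▸ mul_mem (mem_zpowers (q : G)) (mem_zpowers (q : G))
      have h1 := h.conj_mem hqG hmem (show Commute (x : G) _ from congrArg Subtype.val (hcent x).eq)
      obtain ⟨i, hi⟩ := mem_zpowers_iff.1 h1
      have hi' : x * q * x⁻¹ ∈ zpowers q := mem_zpowers_iff.2 ⟨i, Subtype.ext (by simpa using hi)⟩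
      have hxy : x * q * x⁻¹ = x * y := by rw [hq]; group
      rw [hxy] at hi'
      have hxy' : x * y = y * x ^ (hh - 1) := by
        rw [← hyx, show y * (y * x * y) = (y * y) * x * y by group, hy2, one_mul]
      have hsq : x * y * (x * y) ≠ 1 := fun e => by
        rw [← hxy, conj_mul, conj_eq_one_iff, hq2] at e
        exact invol_ne_one hxh e
      rcases zpowers_four_cases (by rw [hq2]; exact invol_sq hxh) hi' hsq with e | e
      · rw [hxy', hq, mul_left_cancel_iff, show hh - 1 = hh - 2 + 1 by omega, pow_succ,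
          mul_eq_right] at e
        have := Nat.le_of_dvd (by omega) (orderOf_dvd_of_pow_eq_one e)
        rw [hx, hhn] at this
        omega
      · rw [hq, mul_inv_rev, hyi, mul_left_inj, ← mul_eq_one_iff_eq_inv] at e
        have := Nat.le_of_dvd two_pos (orderOf_dvd_of_pow_eq_one (show x ^ 2 = 1 by rw [sq, e]))
        omega
  set K : Subgroup G := zpowers (b : G) with hKdef
  have hK : ∀ g : (S : Subgroup G), g ∈ zpowers b ↔ (g : G) ∈ K := by
    intro g
    rw [hKdef, mem_zpowers_iff, mem_zpowers_iff]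
    constructor
    · rintro ⟨i, rfl⟩; exact ⟨i, by simp⟩
    · rintro ⟨i, hi⟩; exact ⟨i, Subtype.ext (by simpa using hi)⟩
  have heo : orderOf (e : G) = 2 := by rw [Subgroup.orderOf_coe, hoe]
  have heK : (e : G) ∈ K := (hK e).1 he
  have hnorm : (zpowers b).Normal := normal_of_index_eq_two hb
  have hSC : (S : Subgroup G) ≤ centralizer ({(e : G)} : Set G) := fun g hg => by
    refine mem_cent.2 (congrArg Subtype.val (mul_inv_eq_iff_eq_mul.1 (invol_unique (x := b)
      (by rw [orderOf_conj', hoe]) hoe (hnorm.conj_mem e he ⟨g, hg⟩) he)))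
  have hCS : centralizer ({(e : G)} : Set G) = (S : Subgroup G) :=
    S.is_maximal' (hcit _ heo) hSC
  have hKS : K ≤ (S : Subgroup G) := zpowers_le.2 b.2
  obtain ⟨s', hs'⟩ : ∃ s', s' ∉ zpowers b := by
    by_contra hno
    push Not at hno
    rw [(eq_top_iff' _).2 hno, index_top] at hb
    omega
  have hs'1 : (s' : G) ≠ 1 := fun e => hs' ((hK _).2 (e ▸ one_mem K))
  refine Frame.known hs hns (t := (e : G)) (s := (s' : G)) (K := K) ?_
  refine ⟨heo, orderOf_two_of (congrArg Subtype.val (hbout s' hs')) hs'1, hKS.trans hSC, heK,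
    hSC s'.2, fun h' => hs' ((hK _).2 h'), fun z hz => ?_, fun g hg => ?_, fun k hk hk2 => ?_,
    fun g hg z hz hgz => ?_, ⟨S, hSC⟩⟩
  · have hz' : (⟨z, hKS hz⟩ : (S : Subgroup G)) ∈ zpowers b := (hK _).2 hz
    have hns' : s' * ⟨z, hKS hz⟩ ∉ zpowers b := fun h' => hs' (by
      have := mul_mem h' (inv_mem hz')
      rwa [mul_inv_cancel_right] at this)
    have h1 : (s' : G) * z * (s' * z) = 1 := congrArg Subtype.val (hbout _ hns')
    have h2 : (s' : G) * (s' : G) = 1 := congrArg Subtype.val (hbout s' hs')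
    rw [inv_eq_of_mul_eq_one_right h2]
    exact eq_inv_of_mul_eq_one_left (by rw [← h1]; simp only [mul_assoc])
  · rw [hCS] at hg
    by_cases hgK : (⟨g, hg⟩ : (S : Subgroup G)) ∈ zpowers b
    · exact Or.inl ((hK _).1 hgK)
    · exact Or.inr ((hK (⟨g, hg⟩ * s')).1 ((mul_mem_iff_of_index_two hb).2
        ⟨fun h' => absurd h' hgK, fun h' => absurd h' hs'⟩))
  · exact invol_unique hk2 heo hk heK
  · by_contra hz1
    obtain ⟨j, hj⟩ := CfsgLib.CITGroups.exists_orderOf_eq_two_pow S.isPGroup' (hKS hz)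
    obtain ⟨v, hvz, hvo⟩ := exists_invol_zpowers (x := z) (by
      rw [hj, Nat.even_pow]
      exact ⟨even_two, fun e0 => hz1 (orderOf_eq_one_iff.1 (by rw [hj, e0, pow_zero]))⟩)
    have hve : v = (e : G) := invol_unique hvo heo (zpowers_le.2 hz hvz) heK
    subst hve
    refine hg (mem_cent.2 (mul_inv_eq_iff_eq_mul.1 ?_))
    exact invol_unique (x := (b : G)) (by rw [orderOf_conj', heo]) heo
      (zpowers_le.2 hgz (conj_mem_zpowers_conj g hvz)) heK

/-- Involution centralisers that are 2-groups. -/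
theorem known_of_two_centralisers (h : II G) (hs : SS G) (hns : ¬ Split G)
    (hcit : CfsgLib.CITGroups.IsCIT G) {t : G} (ht : orderOf t = 2) : Known G := by
  by_cases hne : ∃ P Q : Sylow 2 G, P ≠ Q ∧ (P : Subgroup G) ⊓ Q ≠ ⊥
  · obtain ⟨S, R, hRS, hR4, hR2, hRc, hR⟩ := exists_four_of_intersection h hcit hne
    exact known_of_four h hs hns hcit hRS hR4 hR2 hRc hR
  · push Not at hne
    exact known_of_trivial_intersection h hs hcit ht hne

end CfsgLib.IIGroups70
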