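import Cfsg.Agent.IIGroups70.TwoTight
import Cfsg.Agent.IIGroups70.UniqueTight
import Cfsg.Agent.IIGroups70.TwoCentralisers
import Cfsg.Agent.IIGroups70.Extension
import Cfsg.Agent.PrimeGraph.Lucido

/-!
# The classification by equal normalisers in cyclic subgroups of even order
-/

set_option autoImplicit false
set_option linter.unusedSectionVars false
set_option linter.style.haveILetI false

namespace CfsgLib.IIGroups70

open Subgroup

universe u

variable {G : Type u} [Group G]

/-- A subgroup of index two inherits the absence of solvable normal subgroups. -/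
theorem SS.of_index_two [Finite G] (hs : SS G) {M : Subgroup G} (hM : M.index = 2) {a : G}
    (ha : a ∉ M) : SS M := by
  intro N hN hsol
  have hMn : M.Normal := normal_of_index_eq_two hM
  set N₁ := N.map M.subtype with hN₁
  have h₁le : N₁ ≤ M := map_subtype_le _
  have h₁n : ∀ m ∈ M, ∀ n ∈ N₁, m * n * m⁻¹ ∈ N₁ := by
    rintro m hm _ ⟨n, hn, rfl⟩
    exact ⟨⟨m, hm⟩ * n * ⟨m, hm⟩⁻¹, hN.conj_mem n hn ⟨m, hm⟩, rfl⟩
  set N₂ := N₁.map (MulAut.conj a).toMonoidHom with hN₂
  have hsol₁ : Group.IsSolvable N₁ :=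
    Group.isSolvable_of_surjective
      (f := (N.equivMapOfInjective M.subtype M.subtype_injective).toMonoidHom)
      (MulEquiv.surjective _)
  have hsol₂ : Group.IsSolvable N₂ :=
    Group.isSolvable_of_surjective
      (f := (N₁.equivMapOfInjective (MulAut.conj a).toMonoidHom
        (MulAut.conj a).injective).toMonoidHom) (MulEquiv.surjective _)
  have h₂le : N₂ ≤ M := by
    rintro _ ⟨n, hn, rfl⟩
    exact hMn.conj_mem n (h₁le hn) a
  have h₂n : N₂ ≤ normalizer (N₁ : Set G) := fun g hg => mem_normalizer_iff.2 fun z =>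
    ⟨h₁n g (h₂le hg) z, fun hz => by
      simpa [mul_assoc] using h₁n g⁻¹ (inv_mem (h₂le hg)) _ hz⟩
  have hm₂ : ∀ m ∈ M, ∀ n ∈ N₂, m * n * m⁻¹ ∈ N₂ := by
    rintro m hm _ ⟨n, hn, rfl⟩
    refine ⟨(a⁻¹ * m * a) * n * (a⁻¹ * m * a)⁻¹, h₁n _ (by
      simpa using hMn.conj_mem m hm a⁻¹) n hn, ?_⟩
    show a * _ * a⁻¹ = m * (a * n * a⁻¹) * m⁻¹
    group
  have ha₁ : ∀ n ∈ N₁, a * n * a⁻¹ ∈ N₂ := fun n hn => ⟨n, hn, rfl⟩
  have ha₂ : ∀ n ∈ N₂, a * n * a⁻¹ ∈ N₁ := by
    rintro _ ⟨n, hn, rfl⟩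
    show a * (a * n * a⁻¹) * a⁻¹ ∈ N₁
    rw [show a * (a * n * a⁻¹) * a⁻¹ = a * a * n * (a * a)⁻¹ by group]
    exact h₁n _ (mul_self_mem_of_index_two hM a) n hn
  have hnormal : (N₁ ⊔ N₂).Normal := by
    rw [← normalizer_eq_top_iff, eq_top_iff]
    intro g _
    have key : ∀ g : G, ∀ z ∈ N₁ ⊔ N₂, g * z * g⁻¹ ∈ N₁ ⊔ N₂ := by
      intro g z hz
      have hle : N₁ ⊔ N₂ ≤ (N₁ ⊔ N₂).comap (MulAut.conj g).toMonoidHom := by
        rw [sup_le_iff]
        by_cases hg : g ∈ M
        · exact ⟨fun n hn => mem_sup_left (h₁n g hg n hn),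
            fun n hn => mem_sup_right (hm₂ g hg n hn)⟩
        · have hga : g * a⁻¹ ∈ M := (mul_mem_iff_of_index_two hM).2
            ⟨fun h' => absurd h' hg, fun h' => absurd (by simpa using inv_mem h') ha⟩
          constructor <;> intro n hn <;> show g * n * g⁻¹ ∈ N₁ ⊔ N₂ <;>
            rw [show g * n * g⁻¹ = (g * a⁻¹) * (a * n * a⁻¹) * (g * a⁻¹)⁻¹ by group]
          · exact mem_sup_right (hm₂ _ hga _ (ha₁ n hn))
          · exact mem_sup_left (h₁n _ hga _ (ha₂ n hn))
      exact hle hz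
    exact mem_normalizer_iff.2 fun z =>
      ⟨key g z, fun hz => by simpa [mul_assoc] using key g⁻¹ _ hz⟩
  have hbot := hs _ hnormal (CfsgLib.PrimeGraph.isSolvable_sup hsol₁ hsol₂ h₂n)
  exact (map_eq_bot_iff_of_injective _ M.subtype_injective).1
    (le_bot_iff.1 (hbot ▸ le_sup_left))

theorem known_of_II [Finite G] [Nontrivial G] (h : II G) (hs : SS G) : Known G := by
  classical
  suffices H : ∀ (n : ℕ) (X : Type u) [Group X] [Finite X] [Nontrivial X],
      Nat.card X = n → II X → SS X → Known X from H _ G rfl h hs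
  intro n
  induction n using Nat.strong_induction_on with
  | _ n ih => ?_
  intro X _ _ _ hn h hs
  haveI : Fact (Nat.Prime 2) := ⟨Nat.prime_two⟩
  have heven : Even (Nat.card X) := Nat.not_odd_iff_even.1 fun ho =>
    hs.not_isSolvable (Cfsg.Agent.S0205.result ho)
  obtain ⟨t₀, ht₀⟩ := exists_prime_orderOf_dvd_card' (G := X) 2 heven.two_dvd
  by_cases hsp : Split X
  · obtain ⟨M, hM, s, hso, hsM⟩ := hsp
    haveI : Nontrivial M := by
      rw [nontrivial_iff_ne_bot]
      intro e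
      rw [e, index_bot] at hM
      refine hs.not_isSolvable ?_
      haveI := isCyclic_of_prime_card hM
      exact Group.isSolvable_of_comm fun a b => mul_comm' a b
    have hlt : Nat.card M < n := by
      have h1 := M.card_mul_index
      rw [hM, hn] at h1
      have : 0 < Nat.card M := Nat.card_pos
      omega
    exact Known.extend h hs hM hso hsM
      (ih _ hlt M rfl (h.subgroup M) (hs.of_index_two hM hsM))
  by_cases hA : ∃ t : X, orderOf t = 2 ∧ oddPart t ≠ ⊥
  · obtain ⟨t, ht, hAt⟩ := hA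
    by_cases hw : ∃ w : X, orderOf w = 2 ∧ w ≠ t ∧
        centralizer ({w} : Set X) = centralizer ({t} : Set X)
    · obtain ⟨w, hw, hne, hwC⟩ := hw
      exact known_of_two_tight h hs ht hAt hw hne hwC
    · push Not at hw
      exact known_of_unique_tight h hs hsp ht hAt fun w hwo hwC =>
        by_contra fun hne => hw w hwo hne hwC
  · push Not at hA
    refine known_of_two_centralisers h hs hsp (fun t ht => ?_) ht₀
    refine CfsgLib.CITGroups.isPGroup_two_of_forall fun g hg ho => ?_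
    rw [← mem_bot, ← hA t ht]
    exact (h.mem_oddPart ht).2 ⟨mem_cent.1 hg, ho⟩

end CfsgLib.IIGroups70
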