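import Cfsg.Agent.IIGroups70.Basic
import Mathlib.GroupTheory.SpecificGroups.Cyclic
import Mathlib.RingTheory.IntegralDomain

/-!
# No element of order at least four outside the centraliser of the odd part

`t` is the only involution with its centraliser, whose odd part is nontrivial.  A 2-element
`x ∈ C(t)` of order at least four whose involution is `s ≠ t` would make `s` isolated: the only
conjugate of `s` commuting with `s` is `s` itself.
-/

set_option autoImplicit false
set_option linter.unusedSectionVars false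
set_option linter.style.haveILetI false

namespace CfsgLib.IIGroups70

open Subgroup

variable {G : Type*} [Group G] [Finite G]

/-- A 2-element with nontrivial square has a square root of its involution. -/
theorem exists_root {d : G} {j : ℕ} (hd : orderOf d = 2 ^ j) (h2 : d * d ≠ 1) :
    ∃ a ∈ zpowers d, orderOf a = 4 := by
  have hj : 2 ≤ j := by
    by_contra hlt
    refine h2 ?_
    rw [← sq, ← orderOf_dvd_iff_pow_eq_one, hd]
    calc 2 ^ j ∣ 2 ^ 1 := pow_dvd_pow 2 (by omega)
      _ = 2 := pow_one 2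
  refine ⟨d ^ 2 ^ (j - 2), pow_mem (mem_zpowers d) _, ?_⟩
  rw [orderOf_pow, hd, Nat.gcd_eq_right (pow_dvd_pow 2 (by omega)), Nat.pow_div (by omega) two_pos,
    show j - (j - 2) = 2 by omega]
  norm_num

/-- The involution of a 2-element with nontrivial square is a power of its square. -/
theorem invol_mem_zpowers_sq {d e : G} {j : ℕ} (hd : orderOf d = 2 ^ j) (h2 : d * d ≠ 1)
    (he : orderOf e = 2) (hed : e ∈ zpowers d) : e ∈ zpowers (d * d) := by
  obtain ⟨k, -, hk⟩ := (Nat.dvd_prime_pow Nat.prime_two).1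
    (show orderOf (d * d) ∣ 2 ^ j from
      hd ▸ orderOf_dvd_of_mem_zpowers (mul_mem (mem_zpowers d) (mem_zpowers d)))
  obtain ⟨f, hf, hfo⟩ := exists_invol_zpowers (x := d * d) (by
    rw [hk, Nat.even_pow]
    exact ⟨even_two, fun e0 => h2 (orderOf_eq_one_iff.1 (by rw [hk, e0, pow_zero]))⟩)
  rwa [invol_unique he hfo hed (zpowers_le.2 (mul_mem (mem_zpowers d) (mem_zpowers d)) hf)]

/-- A 2-element of `C(t)` with involution `t` centralises the odd part of `C(t)`. -/
theorem II.commute_oddPart (h : II G) {t g y : G} {k : ℕ} (ht : orderOf t = 2)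
    (hg : orderOf g = 2 ^ k) (htg : t ∈ zpowers g) (hy : y ∈ oddPart t) : Commute g y := by
  obtain ⟨hyt, hyo⟩ := (h.mem_oddPart ht).1 hy
  have hgt : Commute g t := by
    obtain ⟨i, rfl⟩ := mem_zpowers_iff.1 htg
    exact (Commute.refl g).zpow_right i
  have h1 : g * y * g⁻¹ * y⁻¹ ∈ zpowers y :=
    mul_mem (h.odd_conj_mem ht hyt hyo hgt) (inv_mem (mem_zpowers y))
  have h2 : g * y * g⁻¹ * y⁻¹ ∈ zpowers g := by
    rw [show g * y * g⁻¹ * y⁻¹ = g * (y * g⁻¹ * y⁻¹) by group,
      show y * g⁻¹ * y⁻¹ = (y * g * y⁻¹)⁻¹ by group]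
    exact mul_mem (mem_zpowers g) (inv_mem (h.conj_mem ht htg hyt))
  refine mul_inv_eq_iff_eq_mul.1 (mul_inv_eq_one.1 (orderOf_eq_one_iff.1 ?_))
  refine Nat.eq_one_of_dvd_coprimes (Nat.Coprime.pow_left k ?_)
    ((orderOf_dvd_of_mem_zpowers h2).trans hg.dvd) (orderOf_dvd_of_mem_zpowers h1)
  exact Nat.coprime_two_left.2 hyo

theorem false_of_large (h : II G) (hs : SS G) {t : G} (ht : orderOf t = 2) (hA : oddPart t ≠ ⊥)
    (hu : ∀ w : G, orderOf w = 2 → centralizer ({w} : Set G) = centralizer ({t} : Set G) → w = t)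
    {x s : G} {k : ℕ} (hxt : Commute x t) (hxo : orderOf x = 2 ^ k) (hx2 : x * x ≠ 1)
    (hso : orderOf s = 2) (hsx : s ∈ zpowers x) (hst : s ≠ t) : False := by
  classical
  have hst' : Commute s t := by
    obtain ⟨i, rfl⟩ := mem_zpowers_iff.1 hsx
    exact hxt.zpow_left i
  have hxs : Commute x s := by
    obtain ⟨i, rfl⟩ := mem_zpowers_iff.1 hsx
    exact (Commute.refl x).zpow_right i
  have hsinv := h.inverts_oddPart ht hso hst' fun e => hst (hu s hso e)
  -- an element of odd prime order in the odd part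
  obtain ⟨y₀, hy₀, hy₀1⟩ := (oddPart t).bot_or_exists_ne_one.resolve_left hA
  obtain ⟨p, i, hp, hp2, hpi⟩ :=
    CfsgLib.CITGroups.exists_prime_pow ((h.mem_oddPart ht).1 hy₀).2 hy₀1
  set y := y₀ ^ i with hydef
  have hy : y ∈ oddPart t := pow_mem hy₀ i
  have hy1 : y ≠ 1 := fun e => by rw [e, orderOf_one] at hpi; exact hp.one_lt.ne hpi
  obtain ⟨hyt, hyo⟩ := (h.mem_oddPart ht).1 hy
  have hnotfix : ∀ a ∈ oddPart t, s * a * s = a → a = 1 := by
    intro a ha e
    have h1 := hsinv a ha
    rw [e] at h1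
    by_contra ha1
    have h2 : orderOf a = 2 := orderOf_two_of (by nth_rw 2 [h1]; exact mul_inv_cancel a) ha1
    have h3 := ((h.mem_oddPart ht).1 ha).2
    rw [h2] at h3
    exact absurd h3 (by decide)
  set D := centralizer ({t} : Set G) ⊓ centralizer ({s} : Set G) with hDdef
  have hD : ∀ d, d ∈ D ↔ Commute d t ∧ Commute d s := fun d => by
    rw [hDdef, mem_inf, mem_cent, mem_cent]
  have htD : t ∈ D := (hD t).2 ⟨Commute.refl t, hst'.symm⟩
  have hsD : s ∈ D := (hD s).2 ⟨hst', Commute.refl s⟩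
  have hxD : x ∈ D := (hD x).2 ⟨hxt, hxs⟩
  have hDp : IsPGroup 2 D := CfsgLib.CITGroups.isPGroup_two_of_forall fun a ha ho => by
    obtain ⟨hat, has⟩ := (hD a).1 ha
    refine hnotfix a ((h.mem_oddPart ht).2 ⟨hat, ho⟩) ?_
    rw [← has.eq, mul_assoc, invol_sq hso, mul_one]
  -- only `1` and `t` centralise `y` in `D`
  have hker : ∀ d ∈ D, Commute d y → d = 1 ∨ d = t := by
    intro d hd hdy
    obtain ⟨j, hj⟩ := CfsgLib.CITGroups.exists_orderOf_eq_two_pow hDp hd
    by_cases hd2 : d * d = 1
    · by_cases hd1 : d = 1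
      · exact Or.inl hd1
      · exact Or.inr (hu d (orderOf_two_of hd2 hd1)
          (h.tight_of_commute ht (orderOf_two_of hd2 hd1) hy hy1 hdy))
    · exfalso
      obtain ⟨a, ha, ha4⟩ := exists_root hj hd2
      have haa : orderOf (a * a) = 2 := by rw [← sq, orderOf_pow, ha4]; rfl
      have hay : Commute a y := by
        obtain ⟨i, rfl⟩ := mem_zpowers_iff.1 ha
        exact hdy.zpow_left i
      have hat : a * a = t := hu _ haa
        (h.tight_of_commute ht haa hy hy1 (hay.mul_left hay))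
      obtain ⟨hat', has⟩ := (hD a).1 (zpowers_le.2 hd ha)
      have hsq : a * s * (a * s) = t := by
        rw [← sq, has.mul_pow, sq, sq, hat, invol_sq hso, mul_one]
      have h4 : orderOf (a * s) = 2 ^ 2 := by
        refine orderOf_eq_prime_pow (hp := ⟨Nat.prime_two⟩) ?_ ?_
        · rw [pow_one, sq, hsq]; exact invol_ne_one ht
        · rw [show 2 ^ (1 + 1) = 2 * 2 by norm_num, pow_mul, sq (a * s), hsq, sq, invol_sq ht]
      have h5 : Commute (a * s) y := h.commute_oddPart ht h4
        (hsq ▸ mul_mem (mem_zpowers _) (mem_zpowers _)) hy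
      have h6 : Commute s y := by
        have := hay.inv_left.mul_left h5
        rwa [inv_mul_cancel_left] at this
      exact hy1 (hnotfix y hy (by rw [h6.eq, mul_assoc, invol_sq hso, mul_one]))
  -- the action of `D` on `⟨y⟩`
  have hDN : D ≤ normalizer ((zpowers y : Subgroup G) : Set G) := fun d hd =>
    mem_normalizer_zpowers.2 (h.odd_conj_mem ht hyt hyo ((hD d).1 hd).1)
  let f : D →* MulAut (zpowers y) :=
    (normalizerMonoidHom (zpowers y)).comp (Subgroup.inclusion hDN)
  haveI : IsCyclic (MulAut (zpowers y)) := by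
    haveI := Fact.mk hp
    have hc : Nat.card (zpowers y) = p := by rw [Nat.card_zpowers, hpi]
    haveI : IsCyclic (ZMod (Nat.card (zpowers y)))ˣ := by rw [hc]; infer_instance
    exact isCyclic_of_surjective _ (IsCyclic.mulAutMulEquiv (zpowers y)).symm.surjective
  obtain ⟨γ, hγ⟩ := IsCyclic.exists_generator (α := MulAut (zpowers y))
  have hfker : ∀ d : D, f d = 1 → (d : G) = 1 ∨ (d : G) = t := fun d hd => by
    refine hker d d.2 (mul_inv_eq_iff_eq_mul.1 ?_)
    exact congrArg (fun φ : MulAut (zpowers y) => ((φ ⟨y, mem_zpowers y⟩ : zpowers y) : G)) hd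
  have hfs : orderOf (f ⟨s, hsD⟩) = 2 := by
    refine orderOf_two_of (by rw [← map_mul]; exact (map_eq_one_iff' f _ (invol_sq hso))) fun e => ?_
    rcases hfker _ e with e' | e'
    · exact invol_ne_one hso e'
    · exact hst e'
  -- the involutions of `D`
  have hinvD : ∀ d ∈ D, d * d = 1 → d = 1 ∨ d = t ∨ d = s ∨ d = t * s := by
    intro d hd hdd
    by_cases hf1 : f ⟨d, hd⟩ = 1
    · rcases hfker _ hf1 with e | e
      · exact Or.inl e
      · exact Or.inr (Or.inl e)
    · have h2 : orderOf (f ⟨d, hd⟩) = 2 :=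
        orderOf_two_of (by rw [← map_mul]; exact map_eq_one_iff' f _ hdd) hf1
      have heq := invol_unique h2 hfs (hγ _) (hγ _)
      have h3 : f (⟨d, hd⟩ * ⟨s, hsD⟩) = 1 := by
        rw [map_mul, heq, ← map_mul]; exact map_eq_one_iff' f _ (invol_sq hso)
      have h4 : d = d * s * s := by rw [mul_assoc, invol_sq hso, mul_one]
      rcases hfker _ h3 with e | e
      · refine Or.inr (Or.inr (Or.inl ?_))
        rw [h4, show d * s = 1 from e, one_mul]
      · refine Or.inr (Or.inr (Or.inr ?_))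
        rw [h4, show d * s = t from e]
  have hts_ne : t * s ≠ 1 := fun e => hst (by rw [eq_inv_of_mul_eq_one_right e, invol_inv ht])
  have htss : t * s ≠ s := fun e => invol_ne_one ht (mul_eq_right.1 e)
  obtain ⟨b, hb, hb4⟩ := exists_root hxo hx2
  have hbD : b ∈ D := zpowers_le.2 hxD hb
  have hbb : b * b = s := invol_unique (by rw [← sq, orderOf_pow, hb4]; rfl) hso
    (mul_mem hb hb) hsx
  -- large elements of `D` have involution `s`
  have hlarge : ∀ d ∈ D, d * d ≠ 1 → s ∈ zpowers d := by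
    intro d hd hd2
    obtain ⟨j, hj⟩ := CfsgLib.CITGroups.exists_orderOf_eq_two_pow hDp hd
    obtain ⟨a, ha, ha4⟩ := exists_root hj hd2
    have haD : a ∈ D := zpowers_le.2 hd ha
    have haa : orderOf (a * a) = 2 := by rw [← sq, orderOf_pow, ha4]; rfl
    rcases hinvD _ (mul_mem haD haD) (invol_sq haa) with e | e | e | e
    · exact absurd e (invol_ne_one haa)
    · exfalso
      have hc : Commute d y := h.commute_oddPart ht hj (e ▸ mul_mem ha ha) hy
      rcases hker d hd hc with rfl | rfl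
      · exact hd2 (one_mul 1)
      · exact hd2 (invol_sq ht)
    · exact e ▸ mul_mem ha ha
    · exfalso
      -- `a` and `b` differ by a central involution of `D`
      have hfa : f ⟨a, haD⟩ * f ⟨a, haD⟩ = f ⟨s, hsD⟩ := by
        have e1 : f ⟨t, htD⟩ = 1 := MulEquiv.ext fun z => Subtype.ext (by
          show t * (z : G) * t⁻¹ = z
          obtain ⟨i, hi⟩ := mem_zpowers_iff.1 z.2
          rw [← hi, (hyt.zpow_left i).symm.eq, mul_inv_cancel_right])
        rw [← map_mul, show (⟨a, haD⟩ * ⟨a, haD⟩ : D) = ⟨t, htD⟩ * ⟨s, hsD⟩ from Subtype.ext e,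
          map_mul, e1, one_mul]
      have hfb : f ⟨b, hbD⟩ * f ⟨b, hbD⟩ = f ⟨s, hsD⟩ := by
        rw [← map_mul]; exact congrArg f (Subtype.ext hbb)
      obtain ⟨i, hi⟩ := mem_zpowers_iff.1 (hγ (f ⟨a, haD⟩))
      obtain ⟨l, hl⟩ := mem_zpowers_iff.1 (hγ (f ⟨b, hbD⟩))
      have hcab : Commute (f ⟨a, haD⟩) (f ⟨b, hbD⟩) :=
        hi ▸ hl ▸ (Commute.refl γ).zpow_zpow i l
      have h2 : f (⟨a, haD⟩ * ⟨b, hbD⟩⁻¹) * f (⟨a, haD⟩ * ⟨b, hbD⟩⁻¹) = 1 := by
        rw [map_mul, map_inv, ← sq, hcab.inv_right.mul_pow, sq, sq, hfa, ← mul_inv_rev, hfb,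
          mul_inv_cancel]
      have hmem : a * b⁻¹ ∈ D := mul_mem haD (inv_mem hbD)
      have hk : ∃ z : G, (z = 1 ∨ z = t ∨ z = s ∨ z = t * s) ∧ a = z * b := by
        refine ⟨a * b⁻¹, ?_, by group⟩
        by_cases hf1 : f (⟨a, haD⟩ * ⟨b, hbD⟩⁻¹) = 1
        · rcases hfker _ hf1 with e' | e'
          · exact Or.inl e'
          · exact Or.inr (Or.inl e')
        · have heq := invol_unique (orderOf_two_of h2 hf1) hfs (hγ _) (hγ _)
          have h3 : f (⟨a, haD⟩ * ⟨b, hbD⟩⁻¹ * ⟨s, hsD⟩) = 1 := by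
            rw [map_mul, heq, ← map_mul]; exact map_eq_one_iff' f _ (invol_sq hso)
          have h4 : a * b⁻¹ = a * b⁻¹ * s * s := by rw [mul_assoc _ s, invol_sq hso, mul_one]
          rcases hfker _ h3 with e' | e'
          · refine Or.inr (Or.inr (Or.inl ?_))
            rw [h4, show a * b⁻¹ * s = 1 from e', one_mul]
          · refine Or.inr (Or.inr (Or.inr ?_))
            rw [h4, show a * b⁻¹ * s = t from e']
      obtain ⟨z, hz, hazb⟩ := hk
      obtain ⟨hbt, hbs⟩ := (hD b).1 hbD
      have hzb : Commute z b ∧ z * z = 1 := by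
        rcases hz with rfl | rfl | rfl | rfl
        · exact ⟨Commute.one_left b, one_mul 1⟩
        · exact ⟨hbt.symm, invol_sq ht⟩
        · exact ⟨hbs.symm, invol_sq hso⟩
        · exact ⟨hbt.symm.mul_left hbs.symm, by
            rw [← sq, hst'.symm.mul_pow, sq, sq, invol_sq ht, invol_sq hso, one_mul]⟩
      have : a * a = s := by
        rw [hazb, ← sq, hzb.1.mul_pow, sq, sq, hzb.2, one_mul, hbb]
      exact htss (e.symm.trans this)
  -- conjugation by elements of `C(s)`
  have hxt' : s ∈ zpowers (x * t) := by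
    have h1 := invol_mem_zpowers_sq hxo hx2 hso hsx
    refine zpowers_le.2 ?_ h1
    have : x * t * (x * t) = x * x := by
      rw [← sq, hxt.mul_pow, sq, sq, invol_sq ht, mul_one]
    exact this ▸ mul_mem (mem_zpowers _) (mem_zpowers _)
  have hxtD : x * t ∈ D := mul_mem hxD htD
  have hmove : ∀ g, Commute g s → g * t * g⁻¹ = t ∨ g * t * g⁻¹ = t * s := by
    intro g hg
    have hmem : g * t * g⁻¹ ∈ D := by
      have e1 := h.conj_mem hso hsx hg
      have e2 := h.conj_mem hso hxt' hg
      rw [show g * t * g⁻¹ = (g * x * g⁻¹)⁻¹ * (g * (x * t) * g⁻¹) by group]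
      exact mul_mem (inv_mem (zpowers_le.2 hxD e1)) (zpowers_le.2 hxtD e2)
    rcases hinvD _ hmem (by rw [conj_mul, invol_sq ht]; group) with e | e | e | e
    · exact absurd (conj_eq_one_iff.1 e) (invol_ne_one ht)
    · exact Or.inl e
    · refine absurd ?_ hst
      calc s = g⁻¹ * s * g := by rw [mul_assoc, ← hg.eq, inv_mul_cancel_left]
        _ = t := by rw [← e]; group
    · exact Or.inr e
  have hsquare : ∀ g, Commute g s → g * g ∈ D := by
    intro g hg
    refine (hD _).2 ⟨mul_inv_eq_iff_eq_mul.1 ?_, hg.mul_left hg⟩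
    rw [show g * g * t * (g * g)⁻¹ = g * (g * t * g⁻¹) * g⁻¹ by group]
    rcases hmove g hg with e | e
    · rw [e, e]
    · rw [e, ← conj_mul, e, hg.eq, mul_inv_cancel_right, mul_assoc, invol_sq hso, mul_one]
  -- large 2-elements of `C(s)` have involution `s`
  have hL : ∀ (g : G) (j : ℕ), Commute g s → orderOf g = 2 ^ j → g * g ≠ 1 → s ∈ zpowers g := by
    intro g j hg hj hg2
    have hgg := hsquare g hg
    by_cases h4 : g * g * (g * g) = 1
    · rcases hinvD _ hgg h4 with e | e | e | e
      · exact absurd e hg2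
      · refine hlarge g ((hD g).2 ⟨?_, hg⟩) hg2
        rw [← e]; exact (Commute.refl g).mul_right (Commute.refl g)
      · exact e ▸ mul_mem (mem_zpowers g) (mem_zpowers g)
      · refine hlarge g ((hD g).2 ⟨?_, hg⟩) hg2
        rw [show t = g * g * s by rw [e, mul_assoc, invol_sq hso, mul_one]]
        exact ((Commute.refl g).mul_right (Commute.refl g)).mul_right hg
    · exact zpowers_le.2 (mul_mem (mem_zpowers g) (mem_zpowers g)) (hlarge _ hgg h4)
  refine hs.false_of_isolated hso fun g hg => ?_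
  by_contra hne
  set X := g * s * g⁻¹ with hX
  have hXo : orderOf X = 2 := by rw [hX, orderOf_conj', hso]
  obtain ⟨z, hz, hzs, hzX⟩ : ∃ z : G, (z = x ∨ z = x * t) ∧ s ∈ zpowers z ∧ Commute z X := by
    by_cases hXt : Commute X t
    · refine ⟨x, Or.inl rfl, hsx, ?_⟩
      rcases hinvD X ((hD X).2 ⟨hXt, hg⟩) (invol_sq hXo) with e | e | e | e
      · exact absurd e (invol_ne_one hXo)
      · rw [e]; exact hxt
      · exact absurd e hne
      · rw [e]; exact hxt.mul_right hxs
    · have hXtX : X * t * X⁻¹ = t * s :=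
        (hmove X hg).resolve_left fun e => hXt (mul_inv_eq_iff_eq_mul.1 e)
      rw [invol_inv hXo] at hXtX
      have hqq : X * t * (X * t) = s := by
        rw [← mul_assoc, hXtX, hst'.symm.eq, mul_assoc, invol_sq ht, mul_one]
      have hsq : s ∈ zpowers (X * t) := hqq ▸ mul_mem (mem_zpowers _) (mem_zpowers _)
      have hqinv : (X * t)⁻¹ = t * X := by rw [mul_inv_rev, invol_inv ht, invol_inv hXo]
      obtain ⟨i, hi⟩ := mem_zpowers_iff.1 (h.conj_mem hso hsq hxs)
      have hq4 : orderOf (X * t) ∣ 4 := orderOf_dvd_of_pow_eq_one (by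
        rw [show 4 = 2 * 2 by norm_num, pow_mul, sq (X * t), hqq, sq, invol_sq hso])
      have hred : (X * t) ^ i = (X * t) ^ (i % 4) := by
        conv_lhs => rw [← Int.emod_add_mul_ediv i 4, zpow_add, zpow_mul, show (4 : ℤ) = ((4 : ℕ) : ℤ)
          by rfl, zpow_natCast, orderOf_dvd_iff_pow_eq_one.1 hq4, one_zpow, mul_one]
        rfl
      have hq2 : (X * t) * (X * t) ≠ 1 := by rw [hqq]; exact invol_ne_one hso
      have hcase : x * (X * t) * x⁻¹ = X * t ∨ x * (X * t) * x⁻¹ = t * X := by
        rcases show i % 4 = 0 ∨ i % 4 = 1 ∨ i % 4 = 2 ∨ i % 4 = 3 by omega with e | e | e | e <;>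
          rw [hred, e] at hi
        · exfalso
          rw [zpow_zero] at hi
          refine hq2 ?_
          rw [conj_eq_one_iff.1 hi.symm, one_mul]
        · exact Or.inl (hi.symm.trans (zpow_one _))
        · exfalso
          rw [zpow_two, hqq] at hi
          refine hq2 ?_
          have : X * t = x⁻¹ * (x * (X * t) * x⁻¹) * x := by group
          rw [this, ← hi, mul_assoc x⁻¹, ← hxs.eq, inv_mul_cancel_left, invol_sq hso]
        · refine Or.inr (hi.symm.trans ?_)
          rw [show (3 : ℤ) = 4 + -1 by norm_num, zpow_add, zpow_neg_one, show (4 : ℤ) = ((4 : ℕ) : ℤ)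
            by rfl, zpow_natCast, orderOf_dvd_iff_pow_eq_one.1 hq4, one_mul, hqinv]
      rcases hcase with e | e
      · refine ⟨x, Or.inl rfl, hsx, ?_⟩
        have h1 : Commute x (X * t) := mul_inv_eq_iff_eq_mul.1 e
        have := h1.mul_right hxt
        rwa [mul_assoc, invol_sq ht, mul_one] at this
      · refine ⟨x * t, Or.inr rfl, hxt', ?_⟩
        show x * t * X = X * (x * t)
        have h1 : x * X * t = t * X * x := by
          calc x * X * t = x * (X * t) * x⁻¹ * x := by group
            _ = t * X * x := by rw [e]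
        calc x * t * X = t * (x * X * t) * t := by
              rw [hxt.eq, mul_assoc (t) (x * X * t), mul_assoc (x * X) t t, invol_sq ht, mul_one,
                mul_assoc]
          _ = X * (x * t) := by
              rw [h1, show t * (t * X * x) * t = (t * t) * X * x * t by group, invol_sq ht, one_mul,
                mul_assoc]
  obtain ⟨hzo, hz2⟩ : (∃ j, orderOf z = 2 ^ j) ∧ z * z ≠ 1 := by
    rcases hz with rfl | rfl
    · exact ⟨⟨k, hxo⟩, hx2⟩
    · refine ⟨CfsgLib.CITGroups.exists_orderOf_eq_two_pow hDp hxtD, ?_⟩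
      rw [← sq, hxt.mul_pow, sq, sq, invol_sq ht, mul_one]; exact hx2
  obtain ⟨j, hj⟩ := hzo
  set z' := g⁻¹ * z * g with hz'
  have h1 : s ∈ zpowers z' := by
    refine hL z' j ?_ ?_ ?_
    · have := (commute_conj_iff g⁻¹ z X).2 hzX
      simpa [hz', hX, mul_assoc] using this
    · rw [hz', ← hj]; simpa using orderOf_conj' g⁻¹ z
    · intro e
      refine hz2 ?_
      rw [show z * z = g * (z' * z') * g⁻¹ by rw [hz']; group, e, mul_one, mul_inv_cancel]
  have h2 : X ∈ zpowers z := by
    have := conj_mem_zpowers_conj g h1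
    rwa [show g * z' * g⁻¹ = z by rw [hz']; group] at this
  exact hne (invol_unique hXo hso h2 hzs)
where
  /-- The image of a relation. -/
  map_eq_one_iff' {D : Subgroup G} {M : Type _} [Group M] (f : D →* M) (d : D) {e : G}
      (he : e = 1) (hd : (d : G) = e := by rfl) : f d = 1 := by
    rw [show d = 1 from Subtype.ext (hd.trans he), map_one]

end CfsgLib.IIGroups70
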