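import Cfsg.Agent.IIGroups70.Embedded
import Cfsg.Agent.ZCGroup.Embedded

/-!
# Two involutions with one centraliser that has a nontrivial odd part

The normaliser of the centraliser is strongly embedded.
-/

set_option autoImplicit false
set_option linter.unusedSectionVars false
set_option linter.style.haveILetI false

namespace CfsgLib.IIGroups70

open Subgroup CfsgLib.SEmbed

variable {G : Type*} [Group G] [Finite G]

theorem known_of_two_tight (h : II G) (hs : SS G) {t w : G} (ht : orderOf t = 2)
    (hA : oddPart t ≠ ⊥) (hw : orderOf w = 2) (hwne : w ≠ t)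
    (hwC : centralizer ({w} : Set G) = centralizer ({t} : Set G)) : Known G := by
  classical
  haveI : Fact (Nat.Prime 2) := ⟨Nat.prime_two⟩
  set C := centralizer ({t} : Set G) with hCdef
  obtain ⟨y, hy, hy1⟩ := (oddPart t).bot_or_exists_ne_one.resolve_left hA
  obtain ⟨hyt, hyo⟩ := (h.mem_oddPart ht).1 hy
  -- an involution of `C` whose centraliser has nontrivial odd part has centraliser `C`
  have htight : ∀ s : G, orderOf s = 2 → s ∈ C → oddPart s ≠ ⊥ →
      centralizer ({s} : Set G) = C := by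
    intro s hso hsC hAs
    by_contra hne
    obtain ⟨a, ha, ha1⟩ := (oddPart s).bot_or_exists_ne_one.resolve_left hAs
    have hst : Commute s t := mem_cent.1 hsC
    have hsw : Commute s w := mem_cent.1 (hwC ▸ hsC)
    have htw : Commute t w := mem_cent.1 (hwC ▸ self_mem_cent t)
    have hyw : Commute y w := mem_cent.1 (hwC ▸ mem_cent.2 hyt)
    have hr : orderOf (t * w) = 2 := orderOf_two_of (by
      rw [← sq, htw.mul_pow, sq, sq, invol_sq ht, invol_sq hw, one_mul]) fun e =>
        hwne (by rw [eq_inv_of_mul_eq_one_right e, invol_inv ht])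
    have hrC : centralizer ({t * w} : Set G) = C :=
      h.tight_of_commute ht hr hy hy1 (hyt.mul_right hyw).symm
    have e1 := h.inverts_oddPart hso ht hst.symm (fun e => hne e.symm) a ha
    have e2 := h.inverts_oddPart hso hw hsw.symm (fun e => hne (e.symm.trans hwC)) a ha
    have e3 := h.inverts_oddPart hso hr (hst.mul_right hsw).symm
      (fun e => hne (e.symm.trans hrC)) a ha
    have e4 : t * w * a * (t * w) = a := by
      have e5 : w * a⁻¹ * w = a := by
        conv_rhs => rw [← inv_inv a, ← e2]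
        rw [mul_inv_rev, mul_inv_rev, invol_inv hw, mul_assoc]
      calc t * w * a * (t * w) = w * (t * a * t) * w := by
            rw [show t * w * a = w * t * a by rw [htw.eq]]
            simp only [mul_assoc]
        _ = a := by rw [e1]; exact e5
    rw [e4] at e3
    have hsq : a * a = 1 := by
      nth_rw 2 [e3]
      exact mul_inv_cancel a
    refine ha1 (CfsgLib.CITGroups.eq_one_of_odd_two_pow (k := 1) ?_ ((h.mem_oddPart hso).1 ha).2)
    rw [pow_one]
    exact orderOf_two_of hsq ha1
  set H := normalizer (C : Set G) with hH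
  -- the involutions normalising `C` lie in `C`
  have hinv : ∀ u : G, orderOf u = 2 → u ∈ H → u ∈ C := by
    intro u hu huH
    have hn : ∀ a ∈ oddPart t, u * a * u ∈ oddPart t := by
      intro a ha
      obtain ⟨hc, ho⟩ := (h.mem_oddPart ht).1 ha
      have e : u * a * u = u * a * u⁻¹ := by rw [invol_inv hu]
      refine (h.mem_oddPart ht).2 ⟨?_, by rw [e, orderOf_conj']; exact ho⟩
      rw [e]
      exact mem_cent.1 ((mem_normalizer_iff.1 huH a).1 (mem_cent.2 hc))
    by_cases hf : ∀ a ∈ oddPart t, u * a = a * u → a = 1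
    · have h1 := CfsgLib.CITGroups.inverts_of_fixedPointFree (invol_sq hu) hn hf y hy
      rw [hCdef, ← h.odd_nrm ht hyt hyo hy1, mem_normalizer_zpowers, invol_inv hu, h1]
      exact inv_mem (mem_zpowers y)
    · push Not at hf
      obtain ⟨a, ha, hca, ha1⟩ := hf
      obtain ⟨hc, ho⟩ := (h.mem_oddPart ht).1 ha
      exact mem_cent.2 (h.commute_of_odd ht hc ho ha1 hca)
  have key : ∀ g : G, g * t * g⁻¹ ∈ H → g ∈ H := by
    intro g hg
    have hgo : orderOf (g * t * g⁻¹) = 2 := by rw [orderOf_conj', ht]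
    have hgC := htight _ hgo (hinv _ hgo hg) (h.oddPart_conj_ne_bot ht hA g)
    refine mem_normalizer_iff.2 fun a => ?_
    show a ∈ C ↔ g * a * g⁻¹ ∈ C
    conv_rhs => rw [← hgC]
    rw [cent_conj, show g⁻¹ * (g * a * g⁻¹) * g = a by group]
  have htH : t ∈ H := le_normalizer (self_mem_cent t)
  -- two-groups containing `t` normalise `C`
  have hQ : ∀ Q : Subgroup G, IsPGroup 2 Q → t ∈ Q → Q ≤ H := by
    intro Q hQ2 htQ
    by_contra hle
    obtain ⟨r, hr, hr'⟩ := SetLike.exists_of_lt
      (CfsgLib.Small.lt_inf_normalizer_of_pGroup hQ2 (inf_le_left.lt_of_ne fun e =>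
        hle (inf_eq_left.1 e) : Q ⊓ H < Q))
    exact hr' ⟨hr.1, key r ((mem_normalizer_iff.1 hr.2 t).1 ⟨htQ, htH⟩).2⟩
  have hHtop : H ≠ ⊤ := by
    intro e
    refine hA (hs.eq_bot_of_odd ⟨fun a ha g => ?_⟩ ?_)
    · obtain ⟨hc, ho⟩ := (h.mem_oddPart ht).1 ha
      exact (h.mem_oddPart ht).2
        ⟨mem_cent.1 ((mem_normalizer_iff.1 (e ▸ mem_top g : g ∈ H) a).1 (mem_cent.2 hc)),
          by rw [orderOf_conj']; exact ho⟩
    · rw [← Nat.not_even_iff_odd]
      intro he
      obtain ⟨u, hu, huo⟩ := CfsgLib.Small.exists_invol_mem he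
      have := ((h.mem_oddPart ht).1 hu).2
      rw [huo] at this
      exact absurd this (by decide)
  obtain ⟨R, hR⟩ := (IsPGroup.of_card (n := 1) (by rw [Nat.card_zpowers, ht, pow_one]) :
    IsPGroup 2 (zpowers t)).exists_le_sylow
  have htR : t ∈ (R : Subgroup G) := hR (mem_zpowers t)
  have hRH := hQ _ R.isPGroup' htR
  have hSE : Cfsg.IsStronglyEmbedded H := by
    refine CfsgLib.ZCGroup.isStronglyEmbedded_of_centralizer hHtop R
      (fun e => invol_ne_one ht (mem_bot.1 (e ▸ htR))) hRH (fun u huR hu => ?_) fun g hg => ?_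
    · have huC := hinv u hu (hRH huR)
      by_cases hAu : oddPart u = ⊥
      · refine hQ _ (CfsgLib.CITGroups.isPGroup_two_of_forall fun a ha ho => ?_)
          (mem_cent.2 (mem_cent.1 huC).symm)
        rw [← mem_bot, ← hAu]
        exact (h.mem_oddPart hu).2 ⟨mem_cent.1 ha, ho⟩
      · rw [htight u hu huC hAu]
        exact le_normalizer
    · exact key g (hRH ((mem_normalizer_iff.1 hg t).1 htR))
  refine known_of_embedded h hs hSE ht htH fun u huH hu => ?_
  haveI := nontrivial_cosets hSE
  obtain ⟨z, hz⟩ := exists_ne ((1 : G) : G ⧸ H)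
  obtain ⟨d, -, rfl⟩ := exists_conj_fix (uniqueFix hSE) hz.symm
    ⟨ht, (smul_one_eq_iff H t).2 htH⟩ ⟨hu, (smul_one_eq_iff H u).2 huH⟩
  exact htight _ hu (hinv _ hu huH) (h.oddPart_conj_ne_bot ht hA d)

end CfsgLib.IIGroups70
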